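import Cfsg.Agent.Lib.LocalEvenB.IsolatedSylow.NoWreath
import Cfsg.Agent.Lib.LocalEvenB.IsolatedRankTwo
import Cfsg.Agent.Lib.PGroups.ClassTwo
import Cfsg.Agent.Lib.PGroups.Extraspecial

/-!
# The two non-metacyclic families of rank two
-/

set_option autoImplicit false

namespace CfsgLib.LocalEvenB.IsolatedSylow

open Subgroup Cfsg
open scoped commutatorElement

variable {P : Type*} [Group P]

theorem mem_center_of_gens {S : Set P} (hS : Subgroup.closure S = ⊤) {u : P}
    (h : ∀ s ∈ S, Commute s u) : u ∈ Subgroup.center P := by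
  have h1 : Subgroup.closure S ≤ Subgroup.centralizer ({u} : Set P) :=
    (Subgroup.closure_le _).2 fun s hs => Subgroup.mem_centralizer_singleton_iff.2 (h s hs)
  rw [hS] at h1
  exact Subgroup.mem_center_iff.2 fun g => Subgroup.mem_centralizer_singleton_iff.1 (h1 (Subgroup.mem_top g))

theorem normal_of_le_center {T : Subgroup P} (h : T ≤ Subgroup.center P) : T.Normal :=
  ⟨fun v hv g => by rw [Subgroup.mem_center_iff.1 (h hv) g, mul_inv_cancel_right]; exact hv⟩

theorem commutator_le_of_gens {N : Subgroup P} [N.Normal] {S : Set P} (hS : Subgroup.closure S = ⊤)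
    (h : ∀ s ∈ S, ∀ t ∈ S, ⁅s, t⁆ ∈ N) : _root_.commutator P ≤ N := by
  have hc : ∀ a ∈ QuotientGroup.mk' N '' S, ∀ b ∈ QuotientGroup.mk' N '' S, a * b = b * a := by
    rintro _ ⟨s, hs, rfl⟩ _ ⟨t, ht, rfl⟩
    refine (commutatorElement_eq_one_iff_mul_comm).1 ?_
    rw [← map_commutatorElement]
    exact (QuotientGroup.eq_one_iff _).2 (h s hs t ht)
  have hcl := Subgroup.isMulCommutative_closure hc
  have htop : Subgroup.closure (QuotientGroup.mk' N '' S) = ⊤ := by
    rw [← MonoidHom.map_closure, hS, Subgroup.map_top_of_surjective _ (QuotientGroup.mk'_surjective N)]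
  rw [htop] at hcl
  rw [_root_.commutator_def, Subgroup.commutator_le]
  intro u _ v _
  refine (QuotientGroup.eq_one_iff _).1 ?_
  show QuotientGroup.mk' N ⁅u, v⁆ = 1
  rw [map_commutatorElement, commutatorElement_eq_one_iff_mul_comm]
  exact congrArg Subtype.val (hcl.is_comm.comm ⟨_, Subgroup.mem_top (QuotientGroup.mk' N u)⟩
    ⟨_, Subgroup.mem_top (QuotientGroup.mk' N v)⟩)

theorem hom_mem_of_gens {Q : Type*} [Group Q] {S : Set P} (hS : Subgroup.closure S = ⊤) (f : P →* Q)
    {H : Subgroup Q} (h : ∀ s ∈ S, f s ∈ H) (u : P) : f u ∈ H :=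
  (hS ▸ (Subgroup.closure_le (H.comap f)).2 h : ⊤ ≤ H.comap f) (Subgroup.mem_top u)

variable [Finite P] {p : ℕ} [Fact p.Prime]

theorem card_zpowers_le_of_pow {y : P} {m : ℕ} (hm : 0 < m) (h : y ^ m = 1) :
    Nat.card (Subgroup.zpowers y) ≤ m := by
  rw [Nat.card_zpowers]
  exact Nat.le_of_dvd hm (orderOf_dvd_of_pow_eq_one h)

/-- A central element of order `p` lies in `⟨x⟩` when some noncentral element has order `p`. -/
theorem le_zpowers_of_central (hrk : PRankLE p 2 P) {x : P} (hx : orderOf x = p) (hxc : x ∈ Subgroup.center P)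
    {a : P} (ha : a ^ p = 1) (hac : a ∉ Subgroup.center P) {t : P} (htc : t ∈ Subgroup.center P)
    (ht : t ^ p = 1) : t ∈ Subgroup.zpowers x := by
  have hx1 : x ≠ 1 := fun h => by
    rw [h, orderOf_one] at hx
    exact (Fact.out : p.Prime).one_lt.ne hx
  have hle : Subgroup.zpowers x ≤ Subgroup.center P := Subgroup.zpowers_le.2 hxc
  haveI := normal_of_le_center hle
  have h := mem_sup_of_rank_two hrk ha (hx ▸ pow_orderOf_eq_one x) ht
    (Subgroup.mem_center_iff.1 hxc a) (Subgroup.mem_center_iff.1 htc a)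
    (Subgroup.mem_center_iff.1 htc x) hx1 (fun h => hac (hle h))
  obtain ⟨y, hy, z, hz, hyz⟩ := Subgroup.mem_sup_of_normal_right.1 h
  obtain ⟨i, rfl⟩ := Subgroup.mem_zpowers_iff.1 hy
  by_cases h1 : a ^ i = 1
  · rw [← hyz, h1, one_mul]; exact hz
  refine absurd (Subgroup.zpowers_le.2 (?_ : a ^ i ∈ Subgroup.center P) (pPower_mem_zpowers ha h1)) hac
  rw [show a ^ i = t * z⁻¹ by rw [← hyz, mul_inv_cancel_right]]
  exact mul_mem htc (inv_mem (hle hz))

/-- The family with `c` central: only the extraspecial group of exponent `p`. -/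
theorem extraspecial_of_typeOne (hp : p ≠ 2) (hrk : PRankLE p 2 P) {n : ℕ} (hcard : Nat.card P = p ^ n)
    {x : P} (hx : orderOf x = p) (hxc : x ∈ Subgroup.center P)
    (hpow : ∀ m : ℕ, (∀ u v : P, (u * v) ^ m = u ^ m * v ^ m) → (∀ u : P, u ^ m ∈ Subgroup.zpowers x) →
      ∀ u : P, u ^ m = 1)
    (hn : 3 ≤ n) {a b c : P} (hgen : Subgroup.closure ({a, b, c} : Set P) = ⊤) (ha : a ^ p = 1)
    (hb : b ^ p = 1) (hc : c ^ p ^ (n - 2) = 1) (hac : a * c = c * a) (hbc : b * c = c * b)
    (hab : a⁻¹ * b * a = b * c ^ p ^ (n - 3)) :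
    IsExtraspecial p P ∧ Nat.card P = p ^ 3 ∧ ∀ y : P, y ^ p = 1 := by
  have hpp : p.Prime := Fact.out
  have hcc : c ∈ Subgroup.center P := mem_center_of_gens hgen (by
    rintro s (rfl | rfl | rfl)
    · exact hac
    · exact hbc
    · exact Commute.refl _)
  set w := c ^ p ^ (n - 3) with hw
  have hwc : w ∈ Subgroup.center P := pow_mem hcc _
  have hwp : w ^ p = 1 := by
    rw [hw, ← pow_mul, ← pow_succ, show n - 3 + 1 = n - 2 by omega, hc]
  have hwne : w ≠ 1 := by
    intro h1
    have hab' : Commute a b := by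
      rw [h1, mul_one, mul_assoc, inv_mul_eq_iff_eq_mul] at hab
      exact hab.symm
    have hA : Subgroup.zpowers a ≤ Subgroup.normalizer ((Subgroup.zpowers b ⊔ Subgroup.zpowers c : Subgroup P) : Set P) := by
      refine Subgroup.zpowers_le.2 (Subgroup.centralizer_le_normalizer _ ?_)
      refine Subgroup.mem_centralizer_iff.2 fun y hy => ?_
      have : Subgroup.zpowers b ⊔ Subgroup.zpowers c ≤ Subgroup.centralizer ({a} : Set P) :=
        sup_le (Subgroup.zpowers_le.2 (Subgroup.mem_centralizer_singleton_iff.2 hab'.symm.eq))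
          (Subgroup.zpowers_le.2 (Subgroup.mem_centralizer_singleton_iff.2 hac.symm))
      exact Subgroup.mem_centralizer_singleton_iff.1 (this hy)
    have hB : Subgroup.zpowers b ≤ Subgroup.normalizer (Subgroup.zpowers c : Set P) := by
      refine Subgroup.zpowers_le.2 (Subgroup.centralizer_le_normalizer _ ?_)
      refine Subgroup.mem_centralizer_iff.2 fun y hy => ?_
      have : Subgroup.zpowers c ≤ Subgroup.centralizer ({b} : Set P) :=
        Subgroup.zpowers_le.2 (Subgroup.mem_centralizer_singleton_iff.2 hbc.symm)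
      exact Subgroup.mem_centralizer_singleton_iff.1 (this hy)
    have htop : Subgroup.zpowers a ⊔ (Subgroup.zpowers b ⊔ Subgroup.zpowers c) = ⊤ := by
      rw [eq_top_iff, ← hgen, Subgroup.closure_le]
      rintro s (rfl | rfl | rfl)
      · exact Subgroup.mem_sup_left (Subgroup.mem_zpowers _)
      · exact Subgroup.mem_sup_right (Subgroup.mem_sup_left (Subgroup.mem_zpowers _))
      · exact Subgroup.mem_sup_right (Subgroup.mem_sup_right (Subgroup.mem_zpowers _))
    have h2 := card_sup_le hA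
    rw [htop, Subgroup.card_top, hcard] at h2
    have h3 := h2.trans (Nat.mul_le_mul (card_zpowers_le_of_pow hpp.pos ha)
      ((card_sup_le hB).trans (Nat.mul_le_mul (card_zpowers_le_of_pow hpp.pos hb)
        (card_zpowers_le_of_pow (pow_pos hpp.pos _) h1))))
    rw [← pow_succ', ← pow_succ', Nat.pow_le_pow_iff_right hpp.one_lt] at h3
    omega
  have hanc : a ∉ Subgroup.center P := by
    intro h
    rw [mul_assoc, Subgroup.mem_center_iff.1 h b, inv_mul_cancel_left] at hab
    exact hwne (left_eq_mul.1 hab)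
  have hwx := le_zpowers_of_central hrk hx hxc ha hanc hwc hwp
  -- commutators lie in `⟨w⟩`
  haveI : (Subgroup.zpowers w).Normal := normal_of_le_center (Subgroup.zpowers_le.2 hwc)
  have hba : ⁅b⁻¹, a⁻¹⁆ = w := by
    have : b⁻¹ * a⁻¹ * b * a = w := by
      rw [show b⁻¹ * a⁻¹ * b * a = b⁻¹ * (a⁻¹ * b * a) by group, hab, inv_mul_cancel_left]
    rw [commutatorElement_def, inv_inv, inv_inv, this]
  have hcomm : ∀ u v : P, ⁅u, v⁆ ∈ Subgroup.zpowers w := fun u v => by
    refine commutator_le_of_gens hgen ?_ (by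
      rw [_root_.commutator_def]
      exact Subgroup.commutator_mem_commutator (Subgroup.mem_top u) (Subgroup.mem_top v))
    have hw' : ⁅b⁻¹, a⁻¹⁆ ∈ Subgroup.center P := hba ▸ hwc
    have h1 : ⁅b, a⁆ = w := by
      have h2 := PGroups.comm_inv_left_of_central (x := b⁻¹) (y := a⁻¹) hw'
      rw [inv_inv] at h2
      have h3 : ⁅b, a⁻¹⁆ ∈ Subgroup.center P := h2 ▸ inv_mem hw'
      have h4 := PGroups.comm_inv_right_of_central (x := b) (y := a⁻¹) h3
      rw [inv_inv, h2, inv_inv, hba] at h4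
      exact h4
    have hone : ∀ u v : P, Commute u v → ⁅u, v⁆ ∈ Subgroup.zpowers w := fun u v h => by
      rw [commutatorElement_eq_one_iff_mul_comm.2 h]; exact one_mem _
    rintro s (rfl | rfl | rfl) t (rfl | rfl | rfl)
    · exact hone _ _ (Commute.refl _)
    · rw [← commutatorElement_inv, h1]; exact inv_mem (Subgroup.mem_zpowers w)
    · exact hone _ _ hac
    · rw [h1]; exact Subgroup.mem_zpowers w
    · exact hone _ _ (Commute.refl _)
    · exact hone _ _ hbc
    · exact hone _ _ hac.symm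
    · exact hone _ _ hbc.symm
    · exact hone _ _ (Commute.refl _)
  have hcp : ∀ u v : P, ⁅u, v⁆ ^ p = 1 := fun u v => by
    obtain ⟨i, hi⟩ := Subgroup.mem_zpowers_iff.1 (hcomm u v)
    rw [← hi, ← zpow_natCast, ← zpow_mul, mul_comm, zpow_mul, zpow_natCast, hwp, one_zpow]
  have hodd : Odd p := hpp.odd_of_ne_two hp
  have hmulp : ∀ u v : P, (u * v) ^ p = u ^ p * v ^ p := fun u v =>
    PGroups.mul_pow_of_central_odd (Subgroup.zpowers_le.2 hwc (hcomm v u)) hodd (hcp v u)
  have hn3 : n = 3 := by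
    by_contra hne
    obtain ⟨k, rfl⟩ : ∃ k, n = k + 4 := ⟨n - 4, by omega⟩
    have hm : ∀ u v : P, (u * v) ^ p ^ (k + 1) = u ^ p ^ (k + 1) * v ^ p ^ (k + 1) := fun u v =>
      PGroups.mul_pow_of_central_odd (Subgroup.zpowers_le.2 hwc (hcomm v u)) hodd.pow
        (by rw [pow_succ', pow_mul, hcp, one_pow])
    refine hwne ?_
    rw [hw, show k + 4 - 3 = k + 1 by omega]
    refine hpow _ hm (fun u => ?_) c
    refine hom_mem_of_gens hgen (MonoidHom.mk' (fun u : P => u ^ p ^ (k + 1)) hm)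
      (H := Subgroup.zpowers x) ?_ u
    rintro s (rfl | rfl | rfl)
    · show s ^ p ^ (k + 1) ∈ _
      rw [pow_succ', pow_mul, ha, one_pow]; exact one_mem _
    · show s ^ p ^ (k + 1) ∈ _
      rw [pow_succ', pow_mul, hb, one_pow]; exact one_mem _
    · show s ^ p ^ (k + 1) ∈ _
      rw [hw, show k + 4 - 3 = k + 1 by omega] at hwx
      exact hwx
  subst hn3
  have hexp : ∀ y : P, y ^ p = 1 := fun y => by
    have := hom_mem_of_gens hgen (MonoidHom.mk' (fun u : P => u ^ p) hmulp) (H := ⊥) (by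
      rintro s (rfl | rfl | rfl)
      · exact Subgroup.mem_bot.2 ha
      · exact Subgroup.mem_bot.2 hb
      · exact Subgroup.mem_bot.2 (by simpa using hc)) y
    exact Subgroup.mem_bot.1 this
  refine ⟨PGroups.isExtraspecial_of_card_cube (fun h => hanc ?_) hcard, hcard, hexp⟩
  exact Subgroup.mem_center_iff.2 fun g => h.is_comm.comm g a

/-- The family with `c` not normalized modulo `⟨b⟩`: never occurs. -/
theorem false_of_typeTwo (hp : p ≠ 2) (hrk : PRankLE p 2 P) {n : ℕ} (hcard : Nat.card P = p ^ n)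
    {x : P} (hx : orderOf x = p) (hxc : x ∈ Subgroup.center P)
    (hpow : ∀ m : ℕ, (∀ u v : P, (u * v) ^ m = u ^ m * v ^ m) → (∀ u : P, u ^ m ∈ Subgroup.zpowers x) →
      ∀ u : P, u ^ m = 1)
    (hfq : NoWreath p P → FixedQuotient {σ : MulAut P | σ x = x} → False)
    (hn : 4 ≤ n) {s : ℕ} (hs : s = 1 ∨ ¬ IsSquare (s : ZMod p)) {a b c : P}
    (hgen : Subgroup.closure ({a, b, c} : Set P) = ⊤) (ha : a ^ p = 1)
    (hb : b ^ p = 1) (hc : c ^ p ^ (n - 2) = 1) (hbc : b * c = c * b)
    (hab : a⁻¹ * b * a = b * c ^ (s * p ^ (n - 3))) (hac : a⁻¹ * c * a = b * c) : False := by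
  have hpp : p.Prime := Fact.out
  obtain ⟨k, rfl⟩ : ∃ k, n = k + 4 := ⟨n - 4, by omega⟩
  rw [show k + 4 - 3 = k + 1 by omega] at hab
  rw [show k + 4 - 2 = k + 2 by omega] at hc
  set z := c ^ p ^ (k + 1) with hz
  rw [Nat.mul_comm s, pow_mul, ← hz] at hab
  have hsp : ¬ p ∣ s := by
    rcases hs with rfl | hs
    · exact hpp.not_dvd_one
    · intro h
      exact hs ⟨0, by rw [(ZMod.natCast_eq_zero_iff _ _).2 h, mul_zero]⟩
  have hzp : z ^ p = 1 := by rw [hz, ← pow_mul, ← pow_succ, hc]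
  have hac' : ∀ j : ℕ, a⁻¹ * c ^ j * a = b ^ j * c ^ j := fun j => by
    have h1 : (a⁻¹ * c * a⁻¹⁻¹) ^ j = a⁻¹ * c ^ j * a⁻¹⁻¹ := conj_pow
    rw [inv_inv, hac, Commute.mul_pow hbc] at h1
    exact h1.symm
  have hcpc : c ^ p ∈ Subgroup.center P := mem_center_of_gens hgen (by
    rintro t (rfl | rfl | rfl)
    · have h1 := hac' p
      rw [hb, one_mul, mul_assoc, inv_mul_eq_iff_eq_mul] at h1
      exact h1.symm
    · exact Commute.pow_right hbc _
    · exact Commute.self_pow _ _)
  have hzcp : z = (c ^ p) ^ p ^ k := by rw [hz, ← pow_mul, ← pow_succ']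
  have hzc : z ∈ Subgroup.center P := hzcp ▸ pow_mem hcpc _
  -- the abelian normal subgroup `⟨b, c⟩`
  obtain ⟨A, hA⟩ : ∃ A, A = Subgroup.zpowers b ⊔ Subgroup.zpowers c := ⟨_, rfl⟩
  have hbA : b ∈ A := hA ▸ Subgroup.mem_sup_left (Subgroup.mem_zpowers b)
  have hcA : c ∈ A := hA ▸ Subgroup.mem_sup_right (Subgroup.mem_zpowers c)
  have hzA : z ∈ A := pow_mem hcA _
  have haA : a⁻¹ ∈ Subgroup.normalizer (A : Set P) := by
    refine Subgroup.mem_normalizer_fintype fun v hv => ?_
    have hle : A ≤ A.comap (MulAut.conj a⁻¹).toMonoidHom := by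
      conv_lhs => rw [hA]
      refine sup_le (Subgroup.zpowers_le.2 ?_) (Subgroup.zpowers_le.2 ?_)
      · show a⁻¹ * b * a⁻¹⁻¹ ∈ A
        rw [inv_inv, hab]
        exact mul_mem hbA (pow_mem hzA _)
      · show a⁻¹ * c * a⁻¹⁻¹ ∈ A
        rw [inv_inv, hac]
        exact mul_mem hbA hcA
    exact hle hv
  have hdec : ∀ u : P, ∃ i : ℤ, ∃ v ∈ A, u = a ^ i * v := fun u => by
    have h1 : u ∈ Subgroup.zpowers a ⊔ A := by
      refine (?_ : (⊤ : Subgroup P) ≤ _) (Subgroup.mem_top u)
      rw [← hgen, Subgroup.closure_le]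
      rintro t (rfl | rfl | rfl)
      · exact Subgroup.mem_sup_left (Subgroup.mem_zpowers _)
      · exact Subgroup.mem_sup_right hbA
      · exact Subgroup.mem_sup_right hcA
    rw [← SetLike.mem_coe, Subgroup.coe_mul_of_left_le_normalizer_right _ _
      (Subgroup.zpowers_le.2 (inv_mem_iff.1 haA))] at h1
    obtain ⟨y, hy, v, hv, rfl⟩ := h1
    obtain ⟨i, rfl⟩ := Subgroup.mem_zpowers_iff.1 hy
    exact ⟨i, v, hv, rfl⟩
  have hzne : z ≠ 1 := by
    intro h1
    have hB : Subgroup.zpowers b ≤ Subgroup.normalizer (Subgroup.zpowers c : Set P) := by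
      refine Subgroup.zpowers_le.2 (Subgroup.centralizer_le_normalizer _ ?_)
      refine Subgroup.mem_centralizer_iff.2 fun y hy => ?_
      have : Subgroup.zpowers c ≤ Subgroup.centralizer ({b} : Set P) :=
        Subgroup.zpowers_le.2 (Subgroup.mem_centralizer_singleton_iff.2 hbc.symm)
      exact Subgroup.mem_centralizer_singleton_iff.1 (this hy)
    have htop : Subgroup.zpowers a ⊔ A = ⊤ := eq_top_iff.2 fun u _ => by
      obtain ⟨i, v, hv, rfl⟩ := hdec u
      exact Subgroup.mul_mem_sup (Subgroup.zpow_mem _ (Subgroup.mem_zpowers a) i) hv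
    have h2 := card_sup_le (Subgroup.zpowers_le.2 (inv_mem_iff.1 haA))
    rw [htop, Subgroup.card_top, hcard] at h2
    have h4 : Nat.card A ≤ p * p ^ (k + 1) := by
      rw [hA]
      exact (card_sup_le hB).trans (Nat.mul_le_mul (card_zpowers_le_of_pow hpp.pos hb)
        (card_zpowers_le_of_pow (pow_pos hpp.pos _) h1))
    have h3 := h2.trans (Nat.mul_le_mul (card_zpowers_le_of_pow hpp.pos ha) h4)
    rw [← pow_succ', ← pow_succ', Nat.pow_le_pow_iff_right hpp.one_lt] at h3
    omega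
  have hzord : orderOf z = p := orderOf_eq_prime hzp hzne
  have hzs : z ^ s ≠ 1 := fun h => hsp (hzord ▸ orderOf_dvd_of_pow_eq_one h)
  have hbnc : b ∉ Subgroup.center P := by
    intro h
    rw [mul_assoc, ← Subgroup.mem_center_iff.1 h a, inv_mul_cancel_left] at hab
    exact hzs (left_eq_mul.1 hab)
  have hzx := le_zpowers_of_central hrk hx hxc hb hbnc hzc hzp
  -- modulo `T = ⟨z⟩` the class is two
  obtain ⟨T, hT⟩ : ∃ T, T = Subgroup.zpowers z := ⟨_, rfl⟩
  have hTc : T ≤ Subgroup.center P := hT ▸ Subgroup.zpowers_le.2 hzc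
  haveI : T.Normal := normal_of_le_center hTc
  have hzT : z ∈ T := hT ▸ Subgroup.mem_zpowers z
  let π := QuotientGroup.mk' T
  have hbQ : π b ∈ Subgroup.center (P ⧸ T) := by
    refine Subgroup.mem_center_iff.2 fun q => ?_
    obtain ⟨u, rfl⟩ := QuotientGroup.mk'_surjective T q
    have h1 : π a * π b = π b * π a := by
      have h2 : π (a⁻¹ * b * a) = π b := by
        rw [hab, map_mul, show π (z ^ s) = 1 from (QuotientGroup.eq_one_iff _).2 (pow_mem hzT s),
          mul_one]
      rw [map_mul, map_mul, map_inv, mul_assoc, inv_mul_eq_iff_eq_mul] at h2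
      exact h2.symm
    obtain ⟨i, v, hv, rfl⟩ := hdec u
    have h3 : Commute v b := by
      have : A ≤ Subgroup.centralizer ({b} : Set P) := by
        rw [hA]
        exact sup_le (Subgroup.zpowers_le.2 (Subgroup.mem_centralizer_singleton_iff.2 rfl))
          (Subgroup.zpowers_le.2 (Subgroup.mem_centralizer_singleton_iff.2 hbc.symm))
      exact Subgroup.mem_centralizer_singleton_iff.1 (this hv)
    rw [map_mul, map_zpow]
    exact ((Commute.zpow_left h1 i).mul_left (h3.map π)).eq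
  obtain ⟨D, hD⟩ : ∃ D, D = (Subgroup.zpowers (π b)).comap π := ⟨_, rfl⟩
  haveI : (Subgroup.zpowers (π b)).Normal := normal_of_le_center (Subgroup.zpowers_le.2 hbQ)
  haveI hDn : D.Normal := hD ▸ inferInstance
  have hDel : ∀ u ∈ D, ∃ i : ℤ, ∃ τ ∈ T, u = b ^ i * τ := fun u hu => by
    rw [hD, Subgroup.mem_comap] at hu
    obtain ⟨i, hi⟩ := Subgroup.mem_zpowers_iff.1 hu
    refine ⟨i, (b ^ i)⁻¹ * u, (QuotientGroup.eq_one_iff _).1 ?_, by group⟩
    show π ((b ^ i)⁻¹ * u) = 1
    rw [map_mul, map_inv, map_zpow, ← hi, inv_mul_cancel]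
  have hTp : ∀ τ ∈ T, τ ^ p = 1 := fun τ hτ => by
    obtain ⟨i, rfl⟩ := Subgroup.mem_zpowers_iff.1 (hT ▸ hτ)
    rw [← zpow_natCast, ← zpow_mul, mul_comm, zpow_mul, zpow_natCast, hzp, one_zpow]
  have hDp : ∀ u ∈ D, u ^ p = 1 := fun u hu => by
    obtain ⟨i, τ, hτ, rfl⟩ := hDel u hu
    rw [Commute.mul_pow (Subgroup.mem_center_iff.1 (hTc hτ) _), hTp τ hτ, ← zpow_natCast, ← zpow_mul,
      mul_comm (i : ℤ), zpow_mul, zpow_natCast, hb, one_zpow, one_mul]
  have hbD : b ∈ D := hD ▸ Subgroup.mem_zpowers (π b)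
  have hcomD : _root_.commutator P ≤ D := by
    refine commutator_le_of_gens hgen ?_
    have hone : ∀ u v : P, Commute u v → ⁅u, v⁆ ∈ D := fun u v h => by
      rw [commutatorElement_eq_one_iff_mul_comm.2 h]; exact one_mem _
    have hswap : ∀ u v : P, ⁅u, v⁆ ∈ D → ⁅v, u⁆ ∈ D := fun u v h => by
      rw [← commutatorElement_inv]; exact inv_mem h
    have h1 : ⁅a, b⁆ ∈ D := by
      rw [commutatorElement_def]
      exact mul_mem (hDn.conj_mem _ hbD a) (inv_mem hbD)
    have h2 : ⁅a, c⁆ ∈ D := by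
      have h3 : ⁅a, c⁆ = a * b⁻¹ * a⁻¹ := by
        rw [commutatorElement_def, show a * c * a⁻¹ * c⁻¹ = a * (c * (a⁻¹ * c * a)⁻¹) * a⁻¹ by group,
          hac, mul_inv_rev, mul_inv_cancel_left]
      rw [h3]
      exact hDn.conj_mem _ (inv_mem hbD) a
    rintro t (rfl | rfl | rfl) t' (rfl | rfl | rfl)
    · exact hone _ _ (Commute.refl _)
    · exact h1
    · exact h2
    · exact hswap _ _ h1
    · exact hone _ _ (Commute.refl _)
    · exact hone _ _ hbc
    · exact hswap _ _ h2
    · exact hone _ _ hbc.symm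
    · exact hone _ _ (Commute.refl _)
  have hcommD : ∀ u v : P, ⁅u, v⁆ ∈ D := fun u v => hcomD (by
    rw [_root_.commutator_def]
    exact Subgroup.commutator_mem_commutator (Subgroup.mem_top u) (Subgroup.mem_top v))
  have hodd : Odd p := hpp.odd_of_ne_two hp
  rcases Nat.eq_zero_or_pos k with rfl | hk
  · -- order `p ^ 4`
    have hzeq : z = c ^ p := by rw [hzcp, pow_zero, pow_one]
    refine hfq (noWreath_of_card_four hp hcard hrk) ⟨_root_.commutator P, le_rfl,
      fun σ _ v hv => (Subgroup.Characteristic.fixed (H := _root_.commutator P) inferInstance σ).ge hv,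
      c, fun h => hzne ?_, fun σ hσ => ?_⟩
    · rw [hzeq, hDp c (hcomD h)]
    have hbcom : b ∈ _root_.commutator P := by
      have h1 : ⁅c⁻¹, a⁻¹⁆ = b := by
        rw [commutatorElement_def, inv_inv, inv_inv,
          show c⁻¹ * a⁻¹ * c * a = c⁻¹ * (a⁻¹ * c * a) by group, hac, hbc, inv_mul_cancel_left]
      rw [← h1, _root_.commutator_def]
      exact Subgroup.commutator_mem_commutator (Subgroup.mem_top _) (Subgroup.mem_top _)
    have hzcom : z ∈ _root_.commutator P := by
      have h1 : ⁅b⁻¹, a⁻¹⁆ = z ^ s := by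
        rw [commutatorElement_def, inv_inv, inv_inv,
          show b⁻¹ * a⁻¹ * b * a = b⁻¹ * (a⁻¹ * b * a) by group, hab, inv_mul_cancel_left]
      have h2 : z ^ (s : ℤ) ∈ _root_.commutator P := by
        rw [zpow_natCast, ← h1, _root_.commutator_def]
        exact Subgroup.commutator_mem_commutator (Subgroup.mem_top _) (Subgroup.mem_top _)
      exact Subgroup.zpowers_le.2 h2 (pPower_mem_zpowers hzp (by rwa [zpow_natCast]))
    obtain ⟨i, τ, hτ, hσb⟩ := hDel (σ b)
      (hcomD ((Subgroup.Characteristic.fixed (H := _root_.commutator P) inferInstance σ).ge hbcom))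
    have hbi : b ^ i ≠ 1 := fun h1 => hbnc (Subgroup.mem_center_iff.2 fun u => σ.injective (by
      rw [map_mul, map_mul, hσb, h1, one_mul]
      exact Subgroup.mem_center_iff.1 (hTc hτ) (σ u)))
    have hcb : Commute (σ c) b := by
      have h1 : Commute (σ c) (b ^ i) := by
        have h2 : Commute (σ c) (b ^ i * τ) := hσb ▸ (Commute.map hbc σ).symm
        have h3 : Commute (σ c) τ⁻¹ := (Subgroup.mem_center_iff.1 (inv_mem (hTc hτ)) (σ c))
        simpa using h2.mul_right h3
      obtain ⟨j, hj⟩ := Subgroup.mem_zpowers_iff.1 (pPower_mem_zpowers hb hbi)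
      exact hj ▸ h1.zpow_right j
    obtain ⟨i', v, hv, hσc⟩ := hdec (σ c)
    have hvb : Commute v b := by
      have : A ≤ Subgroup.centralizer ({b} : Set P) := by
        rw [hA]
        exact sup_le (Subgroup.zpowers_le.2 (Subgroup.mem_centralizer_singleton_iff.2 rfl))
          (Subgroup.zpowers_le.2 (Subgroup.mem_centralizer_singleton_iff.2 hbc.symm))
      exact Subgroup.mem_centralizer_singleton_iff.1 (this hv)
    have hai : a ^ i' = 1 := by
      by_contra h1
      have h2 : Commute (a ^ i') b := by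
        have := hcb.mul_left hvb.inv_left
        rwa [hσc, mul_inv_cancel_right] at this
      obtain ⟨j, hj⟩ := Subgroup.mem_zpowers_iff.1 (pPower_mem_zpowers ha h1)
      have h3 : Commute a b := hj ▸ h2.zpow_left j
      rw [mul_assoc, ← h3.eq, inv_mul_cancel_left] at hab
      exact hzs (left_eq_mul.1 hab)
    rw [hai, one_mul] at hσc
    rw [hA, ← SetLike.mem_coe, Subgroup.coe_mul_of_left_le_normalizer_right _ _ (by
      refine Subgroup.zpowers_le.2 (Subgroup.centralizer_le_normalizer _ ?_)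
      refine Subgroup.mem_centralizer_iff.2 fun y hy => ?_
      obtain ⟨j, rfl⟩ := Subgroup.mem_zpowers_iff.1 hy
      exact (Commute.zpow_right hbc j).eq.symm)] at hv
    obtain ⟨y, hy, y', hy', hv'⟩ := hv
    obtain ⟨l, rfl⟩ := Subgroup.mem_zpowers_iff.1 hy
    obtain ⟨m, rfl⟩ := Subgroup.mem_zpowers_iff.1 hy'
    simp only at hv'
    have hzfix : σ z = z := by
      obtain ⟨j, hj⟩ := Subgroup.mem_zpowers_iff.1 hzx
      rw [← hj, map_zpow, show σ x = x from hσ]
    have hpm : (p : ℤ) ∣ m - 1 := by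
      rw [← hzord, orderOf_dvd_iff_zpow_eq_one, zpow_sub_one, mul_inv_eq_one]
      conv_rhs => rw [← hzfix, hzeq, map_pow, hσc, ← hv',
        (Commute.zpow_zpow hbc l m).mul_pow, ← zpow_natCast (b ^ l), ← zpow_mul, mul_comm l,
        zpow_mul, zpow_natCast, hb, one_zpow, one_mul]
      rw [hzeq, ← zpow_natCast c, ← zpow_mul, ← zpow_natCast (c ^ m), ← zpow_mul, mul_comm]
    obtain ⟨j, hj⟩ := hpm
    have h1 : σ c * c⁻¹ = b ^ l * z ^ j := by
      rw [hσc, ← hv', mul_assoc, ← zpow_sub_one, hj, zpow_mul, zpow_natCast, ← hzeq]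
    rw [h1]
    exact mul_mem (zpow_mem hbcom l) (zpow_mem hzcom j)
  · -- order at least `p ^ 5`
    have hmodT : ∀ u v : P, ∃ τ ∈ T, (u * v) ^ p = u ^ p * v ^ p * τ := fun u v => by
      refine ⟨(u ^ p * v ^ p)⁻¹ * (u * v) ^ p, (QuotientGroup.eq_one_iff _).1 ?_, by group⟩
      have h1 : ∀ q r : P ⧸ T, ⁅q, r⁆ ∈ Subgroup.zpowers (π b) := by
        intro q r
        obtain ⟨q, rfl⟩ := QuotientGroup.mk'_surjective T q
        obtain ⟨r, rfl⟩ := QuotientGroup.mk'_surjective T r
        rw [← map_commutatorElement]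
        have := hcommD q r
        rw [hD] at this
        exact this
      have h2 : (π u * π v) ^ p = π u ^ p * π v ^ p := by
        refine PGroups.mul_pow_of_central_odd (Subgroup.zpowers_le.2 hbQ (h1 _ _)) hodd ?_
        obtain ⟨i, hi⟩ := Subgroup.mem_zpowers_iff.1 (h1 (π v) (π u))
        rw [← hi, ← zpow_natCast, ← zpow_mul, mul_comm, zpow_mul, zpow_natCast, ← map_pow, hb,
          map_one, one_zpow]
      show π ((u ^ p * v ^ p)⁻¹ * (u * v) ^ p) = 1
      rw [map_mul, map_inv, map_mul, map_pow, map_pow, map_pow, map_mul, h2, inv_mul_cancel]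
    let C : Subgroup P :=
      { carrier := {u | u ^ p ∈ Subgroup.zpowers (c ^ p)}
        one_mem' := by simp
        mul_mem' := fun {u v} hu hv => by
          obtain ⟨τ, hτ, h⟩ := hmodT u v
          show (u * v) ^ p ∈ Subgroup.zpowers (c ^ p)
          rw [h]
          refine mul_mem (mul_mem hu hv) ?_
          obtain ⟨i, rfl⟩ := Subgroup.mem_zpowers_iff.1 (hT ▸ hτ)
          exact zpow_mem (hzcp ▸ pow_mem (Subgroup.mem_zpowers _) _) i
        inv_mem' := fun {u} hu => by
          show u⁻¹ ^ p ∈ Subgroup.zpowers (c ^ p)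
          rw [inv_pow]; exact inv_mem hu }
    have hC : ∀ u : P, u ^ p ∈ Subgroup.zpowers (c ^ p) := fun u => by
      have : (⊤ : Subgroup P) ≤ C := by
        rw [← hgen, Subgroup.closure_le]
        rintro t (rfl | rfl | rfl)
        · show t ^ p ∈ Subgroup.zpowers (c ^ p)
          rw [ha]; exact one_mem _
        · show t ^ p ∈ Subgroup.zpowers (c ^ p)
          rw [hb]; exact one_mem _
        · exact Subgroup.mem_zpowers _
      exact this (Subgroup.mem_top u)
    refine hzne ?_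
    rw [hz]
    refine hpow (p ^ (k + 1)) (fun u v => ?_) (fun u => ?_) c
    · obtain ⟨τ, hτ, h⟩ := hmodT u v
      have hup : u ^ p ∈ Subgroup.center P := Subgroup.zpowers_le.2 hcpc (hC u)
      have hvp : v ^ p ∈ Subgroup.center P := Subgroup.zpowers_le.2 hcpc (hC v)
      obtain ⟨k, rfl⟩ : ∃ k', k = k' + 1 := ⟨k - 1, by omega⟩
      rw [pow_succ', pow_mul, pow_mul, pow_mul, h,
        Commute.mul_pow (Subgroup.mem_center_iff.1 (hTc hτ) _),
        Commute.mul_pow (Subgroup.mem_center_iff.1 hvp _), pow_succ' p k, pow_mul τ, hTp τ hτ,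
        one_pow, mul_one]
    · obtain ⟨i, hi⟩ := Subgroup.mem_zpowers_iff.1 (hC u)
      rw [pow_succ', pow_mul, ← hi, ← zpow_natCast, ← zpow_mul, mul_comm, zpow_mul, zpow_natCast,
        ← hzcp]
      exact zpow_mem hzx i

end CfsgLib.LocalEvenB.IsolatedSylow
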