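import Cfsg.Agent.Lib.LocalEvenB.IsolatedSylow.Blackburn
import Cfsg.Agent.Lib.PGroups.MaxClassThree

/-!
# `3`-groups of maximal class of even exponent

An automorphism fixing a central element of order three fixes `C₁ / S'` when `|S| = 3 ^ n`, `n` even.
-/

set_option autoImplicit false

namespace CfsgLib.LocalEvenB.IsolatedSylow

open Subgroup Cfsg CfsgLib.PGroups CfsgLib.PGroups.MaxClassRank CfsgLib.ClassSizes.MaxClass
open scoped commutatorElement

/-- Commutators are bilinear at a central value. -/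
theorem comm_pow_mul_central {Q : Type*} [Group Q] {g t c v : Q} (hz : ⁅g, t⁆ ∈ Subgroup.center Q)
    (hc : c ∈ Subgroup.center Q) (hv : Commute g v) (i b : ℕ) :
    ⁅g ^ i * c, t ^ b * v⁆ = ⁅g, t⁆ ^ (i * b) := by
  have h1 : ⁅c, t ^ b * v⁆ = 1 :=
    commutatorElement_eq_one_iff_mul_comm.2 (Subgroup.mem_center_iff.1 hc _).symm
  rw [comm_mul_left_of_central (h1 ▸ one_mem _), h1, mul_one]
  have h2 : ⁅g ^ i, v⁆ = 1 := commutatorElement_eq_one_iff_mul_comm.2 (hv.pow_left i).eq
  have h3 : ⁅g ^ i, t⁆ ∈ Subgroup.center Q := by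
    rw [comm_pow_left_of_central hz]; exact pow_mem hz i
  rw [comm_mul_right_of_central (h2 ▸ one_mem _), h2, mul_one, comm_pow_right_of_central h3,
    comm_pow_left_of_central hz, pow_mul]

variable {S : Type*} [Group S] [Finite S] {n : ℕ}

local notation "L" => Subgroup.lowerCentralSeries (⊤ : Subgroup S)

omit [Finite S] in
theorem map_mem_series (σ : MulAut S) (j : ℕ) {y : S} (hy : y ∈ L j) : σ y ∈ L j :=
  lowerCentralSeries.map σ.toMonoidHom j ⟨y, hy, rfl⟩

omit [Finite S] in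
theorem map_mem_twoStep (σ : MulAut S) (j : ℕ) {y : S} (hy : y ∈ twoStep (S := S) j) :
    σ y ∈ twoStep (S := S) j := by
  refine mem_twoStep.2 fun z hz => ?_
  have h := map_mem_series σ (j + 2) (mem_twoStep.1 hy (σ.symm z) (map_mem_series σ.symm j hz))
  rwa [map_commutatorElement, MulEquiv.apply_symm_apply] at h

theorem fixedQuotient_maxClass (D : Data S 3 n) (hn : 4 ≤ n) (hev : Even n) {x : S}
    (hx : orderOf x = 3) (hxc : x ∈ Subgroup.center S) :
    FixedQuotient {σ : MulAut S | σ x = x} := by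
  haveI : Fact (Nat.Prime 3) := ⟨Nat.prime_three⟩
  set C := twoStep (S := S) 1 with hC
  have hLC : L 1 ≤ C := MaxClassThree.L_one_le_twoStep D
  have hlt1 : ¬ C ≤ L 1 := fun h => by
    have h1 := Subgroup.card_le_of_le h
    have h2 := C.card_mul_index
    have h3 := D.twoStep_index_le (j := 1) le_rfl (by omega)
    rw [← hC] at h3
    rw [D.hser 1 le_rfl (by omega)] at h1
    rw [D.hcard] at h2
    have h4 : 3 ^ n ≤ 3 ^ (n - 1 - 1) * 3 := h2 ▸ Nat.mul_le_mul h1 h3
    rw [← pow_succ, Nat.pow_le_pow_iff_right (by norm_num)] at h4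
    omega
  obtain ⟨u, huC, hu1⟩ := SetLike.not_le_iff_exists.1 hlt1
  have hCtop : C ≠ ⊤ := D.twoStep_ne_top (by omega)
  obtain ⟨s, hs⟩ : ∃ s, s ∉ C := by
    by_contra h
    push Not at h
    exact hCtop (eq_top_iff.2 fun g _ => h g)
  -- the two layers below `S / L 1`
  have hcard2 : ∀ H K : Subgroup S, H < K → 3 * Nat.card H ≤ Nat.card K := fun H K h => by
    obtain ⟨a, ha⟩ := IsPGroup.iff_card.1 (D.pgrp.to_subgroup H)
    obtain ⟨b, hb⟩ := IsPGroup.iff_card.1 (D.pgrp.to_subgroup K)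
    have h1 : Nat.card H < Nat.card K :=
      lt_of_le_of_ne (Subgroup.card_le_of_le h.le) fun e => h.ne (Subgroup.eq_of_le_of_card_ge h.le e.ge)
    rw [ha, hb] at h1 ⊢
    rw [← pow_succ']
    exact Nat.pow_le_pow_right (by norm_num) ((Nat.pow_lt_pow_iff_right (by norm_num)).mp h1)
  have hbig : ∀ v : S, v ∈ C → v ∉ L 1 →
      Subgroup.zpowers v ⊔ L 1 = C ∧ Subgroup.zpowers s ⊔ C = ⊤ := fun v hvC hv => by
    have hle : Subgroup.zpowers v ⊔ L 1 ≤ C := sup_le (Subgroup.zpowers_le.2 hvC) hLC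
    have h1 : 3 * Nat.card (L 1) ≤ Nat.card (Subgroup.zpowers v ⊔ L 1 : Subgroup S) := by
      refine hcard2 _ _ (lt_of_le_of_ne le_sup_right fun e => hv ?_)
      rw [e]; exact Subgroup.mem_sup_left (Subgroup.mem_zpowers v)
    have h2 : 3 * Nat.card C ≤ Nat.card (Subgroup.zpowers s ⊔ C : Subgroup S) := by
      refine hcard2 _ _ (lt_of_le_of_ne le_sup_right fun e => hs ?_)
      rw [e]; exact Subgroup.mem_sup_left (Subgroup.mem_zpowers s)
    have h3 := Subgroup.card_le_of_le hle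
    have h4 := Subgroup.card_le_card_group (Subgroup.zpowers s ⊔ C)
    have h5 : Nat.card S = 9 * Nat.card (L 1) := by
      rw [D.hcard, D.hser 1 le_rfl (by omega), show (9 : ℕ) = 3 ^ 2 from rfl, ← pow_add]
      congr 1
      omega
    exact ⟨Subgroup.eq_of_le_of_card_ge hle (by omega), Subgroup.eq_top_of_le_card _ (by omega)⟩
  obtain ⟨hCu, hStop⟩ := hbig u huC hu1
  haveI : (L 1).Normal := inferInstance
  have hdecC : ∀ v ∈ C, ∃ i : ℕ, ∃ l ∈ L 1, v = u ^ i * l := fun v hv => by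
    rw [← hCu] at hv
    obtain ⟨y, hy, l, hl, rfl⟩ := Subgroup.mem_sup_of_normal_right.1 hv
    obtain ⟨i, rfl⟩ := (Submonoid.mem_powers_iff _ _).1 (mem_powers_iff_mem_zpowers.2 hy)
    exact ⟨i, l, hl, rfl⟩
  have hCn : C.Normal := ⟨fun v hv g => map_mem_twoStep (MulAut.conj g) 1 hv⟩
  have hdecS : ∀ v : S, ∃ i : ℕ, ∃ c ∈ C, v = s ^ i * c := fun v => by
    obtain ⟨y, hy, c, hc, rfl⟩ := Subgroup.mem_sup_of_normal_right.1 (hStop.ge (Subgroup.mem_top v))
    obtain ⟨i, rfl⟩ := (Submonoid.mem_powers_iff _ _).1 (mem_powers_iff_mem_zpowers.2 hy)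
    exact ⟨i, c, hc, rfl⟩
  have hnotL2 : ∀ v : S, v ∈ C → v ∉ L 1 → ⁅v, s⁆ ∉ L 2 := fun v hvC hv h => by
    obtain ⟨e1, e2⟩ := hbig v hvC hv
    have hgen : Subgroup.closure ({v, s} : Set S) = ⊤ := by
      refine frattini_nongenerating (eq_top_iff.2 ?_)
      rw [← e2, ← e1, D.hfrat]
      exact sup_le (Subgroup.zpowers_le.2 (Subgroup.mem_sup_left (Subgroup.subset_closure (Or.inr rfl))))
        (sup_le (Subgroup.zpowers_le.2 (Subgroup.mem_sup_left (Subgroup.subset_closure (Or.inl rfl))))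
          le_sup_right)
    have hle : _root_.commutator S ≤ L 2 := by
      refine commutator_le_of_gens hgen ?_
      rintro a (rfl | rfl) b (rfl | rfl)
      · rw [commutatorElement_self]; exact one_mem _
      · exact h
      · rw [← commutatorElement_inv]; exact inv_mem h
      · rw [commutatorElement_self]; exact one_mem _
    rw [← Subgroup.top_lowerCentralSeries_one] at hle
    exact (D.lt (j := 1) le_rfl (by omega)).not_ge hle
  -- `x` lies in the last layer
  have hxs : ⁅x, s⁆ = 1 := commutatorElement_eq_one_iff_mul_comm.2 (Subgroup.mem_center_iff.1 hxc s).symm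
  have hxL : ∀ i, i + 1 ≤ n - 2 → x ∈ L (i + 1) := by
    intro i
    induction i with
    | zero =>
      intro _
      by_contra hx1
      refine hnotL2 x (mem_twoStep.2 fun z _ => ?_) hx1 (by rw [hxs]; exact one_mem _)
      rw [commutatorElement_eq_one_iff_mul_comm.2 (Subgroup.mem_center_iff.1 hxc z)]
      exact one_mem _
    | succ i ih =>
      intro hi
      by_contra hx1
      refine hs ?_
      rw [hC, ← MaxClassThree.twoStep_eq D (i + 1) (by omega) (by omega)]
      exact D.mem_twoStep_of_commute (by omega) (ih (by omega)) hx1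
        (mk_commute_iff.1 (by rw [hxs]; exact one_mem _))
  refine ⟨L 1, (Subgroup.top_lowerCentralSeries_one (G := S)).ge,
    fun σ _ v hv => map_mem_series σ 1 hv, u, hu1, fun σ hσ => ?_⟩
  obtain ⟨a, c, hc, hσu⟩ := hdecC (σ u) (map_mem_twoStep σ 1 huC)
  obtain ⟨b, v, hv, hσs⟩ := hdecS (σ s)
  -- one step of the chain
  have step : ∀ (j i : ℕ) (g : S) (l : S), g ∈ L j → l ∈ L (j + 1) → σ g = g ^ i * l →
      Commute (g : S ⧸ L (j + 2)) (v : S ⧸ L (j + 2)) →
      ∃ l' ∈ L (j + 2), σ ⁅g, s⁆ = ⁅g, s⁆ ^ (i * b) * l' := by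
    intro j i g l hg hl hσg hgv
    refine ⟨(⁅g, s⁆ ^ (i * b))⁻¹ * σ ⁅g, s⁆, ?_, (mul_inv_cancel_left _ _).symm⟩
    have hcen : ∀ z ∈ L (j + 1), (z : S ⧸ L (j + 2)) ∈ Subgroup.center (S ⧸ L (j + 2)) := fun z hz =>
      Subgroup.mem_center_iff.2 fun q => by
        obtain ⟨q, rfl⟩ := QuotientGroup.mk_surjective q
        exact (central_mod (t := j + 1) hz q).eq.symm
    have h1 : ⁅g, s⁆ ∈ L (j + 1) := by
      rw [Subgroup.lowerCentralSeries_succ]
      exact Subgroup.commutator_mem_commutator hg (Subgroup.mem_top s)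
    refine (QuotientGroup.eq_one_iff _).1 ?_
    show QuotientGroup.mk' (L (j + 2)) ((⁅g, s⁆ ^ (i * b))⁻¹ * σ ⁅g, s⁆) = 1
    rw [map_mul, map_inv, map_pow, map_commutatorElement σ, hσg, hσs, map_commutatorElement,
      map_commutatorElement, map_mul, map_mul, map_pow, map_pow,
      comm_pow_mul_central (g := QuotientGroup.mk' _ g) (t := QuotientGroup.mk' _ s)
        (c := QuotientGroup.mk' _ l) (v := QuotientGroup.mk' _ v)
        (by rw [← map_commutatorElement]; exact hcen _ h1) (hcen l hl) hgv,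
      inv_mul_cancel]
  have chain : ∀ j, j + 1 ≤ n - 2 → ∃ g ∈ L (j + 1), g ∉ L (j + 2) ∧
      ∃ l ∈ L (j + 2), σ g = g ^ (a * b ^ (j + 1)) * l := by
    intro j
    induction j with
    | zero =>
      intro _
      have hgv : Commute (u : S ⧸ L (0 + 2)) (v : S ⧸ L (0 + 2)) := by
        obtain ⟨k, l, hl, rfl⟩ := hdecC v hv
        rw [QuotientGroup.mk_mul, QuotientGroup.mk_pow]
        exact (Commute.self_pow _ k).mul_right (central_mod (t := 1) hl u).symm
      obtain ⟨l', hl', h⟩ := step 0 a u c (by simp) hc hσu hgv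
      refine ⟨⁅u, s⁆, ?_, hnotL2 u huC hu1, l', hl', by rw [h, pow_one]⟩
      rw [Subgroup.lowerCentralSeries_succ]
      exact Subgroup.commutator_mem_commutator (by simp) (Subgroup.mem_top s)
    | succ j ih =>
      intro hj
      obtain ⟨g, hg, hg', l, hl, hσg⟩ := ih (by omega)
      have hgv : Commute (g : S ⧸ L (j + 1 + 2)) (v : S ⧸ L (j + 1 + 2)) := by
        refine mk_commute_iff.1 (mem_twoStep.1 ?_ g hg)
        rw [MaxClassThree.twoStep_eq D (j + 1) (by omega) (by omega)]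
        exact hv
      obtain ⟨l', hl', h⟩ := step (j + 1) (a * b ^ (j + 1)) g l hg hl hσg hgv
      refine ⟨⁅g, s⁆, ?_, fun hin => hs ?_, l', hl', by rw [h, mul_assoc, ← pow_succ]⟩
      · rw [Subgroup.lowerCentralSeries_succ _ (j + 1)]
        exact Subgroup.commutator_mem_commutator hg (Subgroup.mem_top s)
      · rw [hC, ← MaxClassThree.twoStep_eq D (j + 1) (by omega) (by omega)]
        exact D.mem_twoStep_of_commute (by omega) hg hg' (mk_commute_iff.1 hin)
  obtain ⟨k, hk⟩ : ∃ k, n = k + 3 := ⟨n - 3, by omega⟩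
  obtain ⟨g, hg, hg', l, hl, hσg⟩ := chain k (by omega)
  have hl1 : l = 1 := D.mem_or (i := k + 2) (by omega) l hl (by omega)
  have hg1 : g ≠ 1 := fun h => hg' (h ▸ one_mem _)
  have hxg : g ∈ Subgroup.zpowers x := by
    have e : Subgroup.zpowers x = L (k + 1) := by
      refine Subgroup.eq_of_le_of_card_ge (Subgroup.zpowers_le.2 (hxL k (by omega))) ?_
      rw [D.hser (k + 1) (by omega) (by omega), Nat.card_zpowers, hx,
        show n - 1 - (k + 1) = 1 by omega, pow_one]
    rw [e]; exact hg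
  have hord : orderOf g = 3 := by
    refine orderOf_eq_prime ?_ hg1
    obtain ⟨i, rfl⟩ := Subgroup.mem_zpowers_iff.1 hxg
    rw [← zpow_natCast, ← zpow_mul, mul_comm, zpow_mul, zpow_natCast, ← hx, pow_orderOf_eq_one,
      one_zpow]
  have hfix : σ g = g := by
    obtain ⟨i, rfl⟩ := Subgroup.mem_zpowers_iff.1 hxg
    rw [map_zpow, show σ x = x from hσ]
  rw [hl1, mul_one, hfix] at hσg
  have hmod : a * b ^ (k + 1) ≡ 1 [MOD 3] := by
    have h := hσg.symm.trans (pow_one g).symm
    rw [pow_eq_pow_iff_modEq, hord] at h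
    exact h
  have ha : a % 3 = 1 := by
    obtain ⟨e, he⟩ : Even (k + 1) := by
      rw [hk] at hev
      obtain ⟨e, he⟩ := hev
      exact ⟨e - 1, by omega⟩
    have h1 : (a * b ^ (k + 1)) % 3 = 1 := hmod
    rw [Nat.mul_mod, Nat.pow_mod, he, ← two_mul, pow_mul] at h1
    have hb3 : b % 3 < 3 := Nat.mod_lt _ (by norm_num)
    have ha3 : a % 3 < 3 := Nat.mod_lt _ (by norm_num)
    rw [Nat.pow_mod] at h1
    interval_cases hb : b % 3
    · rcases Nat.eq_zero_or_pos e with rfl | hpos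
      · omega
      · simp [zero_pow hpos.ne'] at h1
    · simpa using h1
    · simpa using h1
  have hu3 : u ^ 3 ∈ L 1 := by rw [← D.hfrat]; exact PGroups.pow_mem_frattini D.pgrp u
  show σ u * u⁻¹ ∈ L 1
  rw [hσu, show a = 3 * (a / 3) + 1 by omega, pow_succ, pow_mul, mul_assoc (((u ^ 3) ^ (a / 3))), mul_assoc]
  refine mul_mem (pow_mem hu3 _) ?_
  exact (inferInstance : (L 1).Normal).conj_mem c hc u

end CfsgLib.LocalEvenB.IsolatedSylow
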