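import Cfsg.Agent.Lib.LocalEvenB.IsolatedSylow.NoWreath
import Cfsg.Agent.Lib.PGroups.ClassTwo
import Cfsg.Agent.Lib.PGroups.Basic
import Cfsg.Agent.Lib.PGroups.RankTwoOmega
import Cfsg.Agent.Lib.Components.CyclicSylowSimple

/-!
# Metacyclic `p`-groups: subgroups, and abelian quotients with fixed points
-/

set_option autoImplicit false

namespace CfsgLib.LocalEvenB.IsolatedSylow

open Subgroup Cfsg
open scoped commutatorElement

universe u

variable {P : Type u} [Group P]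

/-- Subgroups of metacyclic groups are two-generated. -/
theorem two_gen_of_metacyclic (h : IsMetacyclic P) (H : Subgroup P) :
    ∃ a b : P, H = Subgroup.closure {a, b} := by
  obtain ⟨N, hNn, hNc, hQc⟩ := h
  obtain ⟨a, ha⟩ := (Subgroup.isCyclic_iff_exists_zpowers_eq_top _).1
    (Subgroup.isCyclic_of_le (inf_le_right : H ⊓ N ≤ N) : IsCyclic (H ⊓ N : Subgroup P))
  obtain ⟨q, hq⟩ := (Subgroup.isCyclic_iff_exists_zpowers_eq_top _).1
    (inferInstance : IsCyclic (H.map (QuotientGroup.mk' N)))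
  have haH : a ∈ H := (Subgroup.mem_inf.1 (ha ▸ Subgroup.mem_zpowers a : a ∈ H ⊓ N)).1
  obtain ⟨b, hb, hbq⟩ : ∃ b ∈ H, QuotientGroup.mk' N b = q := by
    have h0 : q ∈ H.map (QuotientGroup.mk' N) := by rw [← hq]; exact Subgroup.mem_zpowers q
    exact Subgroup.mem_map.1 h0
  refine ⟨a, b, le_antisymm (fun y hy => ?_) ?_⟩
  · have h1 : QuotientGroup.mk' N y ∈ Subgroup.zpowers q := by
      rw [hq]; exact Subgroup.mem_map_of_mem _ hy
    obtain ⟨i, hi⟩ : ∃ i : ℤ, q ^ i = QuotientGroup.mk' N y := h1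
    have h2 : (b ^ i)⁻¹ * y ∈ H ⊓ N := by
      refine Subgroup.mem_inf.2 ⟨H.mul_mem (H.inv_mem (H.zpow_mem hb i)) hy,
        (QuotientGroup.eq_one_iff _).1 ?_⟩
      show QuotientGroup.mk' N ((b ^ i)⁻¹ * y) = 1
      rw [map_mul, map_inv, map_zpow, hbq, ← hi]
      exact inv_mul_cancel _
    rw [← ha] at h2
    obtain ⟨j, hj⟩ : ∃ j : ℤ, a ^ j = (b ^ i)⁻¹ * y := h2
    rw [show y = b ^ i * a ^ j by rw [show a ^ j = (b ^ i)⁻¹ * y from hj]; group]
    have ha' : a ∈ Subgroup.closure ({a, b} : Set P) := Subgroup.subset_closure (Or.inl rfl)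
    have hb' : b ∈ Subgroup.closure ({a, b} : Set P) := Subgroup.subset_closure (Or.inr rfl)
    exact Subgroup.mul_mem _ (Subgroup.zpow_mem _ hb' i) (Subgroup.zpow_mem _ ha' j)
  · rw [Subgroup.closure_le]
    rintro y (rfl | rfl) <;> assumption

theorem isMetacyclic_quotient (h : IsMetacyclic P) (T : Subgroup P) [T.Normal] :
    IsMetacyclic (P ⧸ T) := by
  obtain ⟨N, hNn, hNc, hQc⟩ := h
  have hn : (N.map (QuotientGroup.mk' T)).Normal :=
    Subgroup.Normal.map hNn _ (QuotientGroup.mk'_surjective T)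
  refine ⟨N.map (QuotientGroup.mk' T), hn, ?_, ?_⟩
  · exact isCyclic_of_surjective _ ((QuotientGroup.mk' T).subgroupMap_surjective N)
  · let f : P ⧸ N →* (P ⧸ T) ⧸ N.map (QuotientGroup.mk' T) :=
      QuotientGroup.map N _ (QuotientGroup.mk' T) fun y hy => ⟨y, hy, rfl⟩
    refine isCyclic_of_surjective f fun y => ?_
    obtain ⟨y, rfl⟩ := QuotientGroup.mk_surjective y
    obtain ⟨y, rfl⟩ := QuotientGroup.mk_surjective y
    exact ⟨(y : P ⧸ N), rfl⟩

variable {p : ℕ} [Fact p.Prime]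

/-- Automorphisms fixing a nontrivial central element fix a point of an abelian quotient. -/
theorem fixedQuotient_of_metacyclic (hp : p ≠ 2) : ∀ (m : ℕ) (P : Type u) [Group P] [Finite P],
    Nat.card P = m → IsPGroup p P → IsMetacyclic P → ∀ x ∈ Subgroup.center P, x ≠ 1 →
      ∀ Γ : Set (MulAut P), (∀ σ ∈ Γ, σ x = x) → FixedQuotient Γ := by
  intro m
  induction m using Nat.strong_induction_on with
  | _ m ih =>
  intro P _ _ hm hP hmeta x hxc hx1 Γ hΓ
  classical
  obtain ⟨N, hNn, hNc, hQc⟩ := id hmeta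
  set D := _root_.commutator P with hD
  have hDN : D ≤ N := by
    letI := IsCyclic.commGroup (α := P ⧸ N)
    have := Abelianization.commutator_subset_ker (QuotientGroup.mk' N)
    rwa [QuotientGroup.ker_mk'] at this
  have : IsCyclic D := Subgroup.isCyclic_of_le hDN
  by_cases hD1 : D = ⊥
  · refine ⟨⊥, hD1.le, fun σ _ v hv => ?_, x, fun h => hx1 (Subgroup.mem_bot.1 h), fun σ hσ => ?_⟩
    · rw [Subgroup.mem_bot] at hv ⊢
      rw [hv, map_one]
    · rw [hΓ σ hσ, mul_inv_cancel]; exact one_mem _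
  obtain ⟨g, hg⟩ := (Subgroup.isCyclic_iff_exists_zpowers_eq_top _).1 (inferInstance : IsCyclic D)
  obtain ⟨k, hk⟩ := IsPGroup.iff_orderOf.1 hP g
  have hk0 : k ≠ 0 := fun h => hD1 (by
    rw [h, pow_zero, orderOf_eq_one_iff] at hk
    rw [← hg, hk, Subgroup.zpowers_one_eq_bot])
  have hgD : g ∈ D := hg ▸ Subgroup.mem_zpowers g
  set t := g ^ p ^ (k - 1) with ht
  have htD : t ∈ D := pow_mem hgD _
  have hto : orderOf t = p := by
    rw [ht, orderOf_pow_of_dvd (pow_ne_zero _ (Fact.out : p.Prime).ne_zero)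
      (hk ▸ pow_dvd_pow p (Nat.sub_le k 1)), hk, Nat.pow_div (Nat.sub_le k 1) (Fact.out : p.Prime).pos,
      show k - (k - 1) = 1 by omega, pow_one]
  -- automorphisms preserve the cyclic subgroups of `D`
  have hDchar : ∀ (σ : MulAut P) (v : P), v ∈ D → σ v ∈ D := fun σ v hv =>
    (Subgroup.Characteristic.fixed (H := D) inferInstance σ).ge hv
  have hcyc : ∀ (σ : MulAut P) (v : P), v ∈ D → σ v ∈ Subgroup.zpowers v := fun σ v hv => by
    rw [← Components.zpowers_eq_of_isCyclic (hDchar σ v hv) hv (σ.orderOf_eq v)]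
    exact Subgroup.mem_zpowers _
  set T := Subgroup.zpowers t with hT
  have hTn : T.Normal := ⟨fun v hv y => by
    obtain ⟨i, rfl⟩ := hv
    show MulAut.conj y (t ^ i) ∈ T
    rw [map_zpow]
    exact zpow_mem (hcyc _ t htD) i⟩
  have htc : t ∈ Subgroup.center P :=
    PGroups.RankTwoOmega.le_center_of_card_le (hP) (Z := T) (by rw [hT, Nat.card_zpowers, hto]) (Subgroup.mem_zpowers t)
  have hTσ : ∀ (σ : MulAut P), T.map σ.toMonoidHom = T := fun σ =>
    Subgroup.eq_of_le_of_card_ge (by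
      rintro _ ⟨v, ⟨i, rfl⟩, rfl⟩
      show σ (t ^ i) ∈ T
      rw [map_zpow]
      exact zpow_mem (hcyc σ t htD) i)
      (Subgroup.card_map_of_injective σ.injective).ge
  -- the recursion
  have hrec : ∀ y : P, y ∉ T → (∀ v : P, v * y * v⁻¹ * y⁻¹ ∈ T) → (∀ σ ∈ Γ, σ y * y⁻¹ ∈ T) →
      FixedQuotient Γ := by
    intro y hyT hyc hyfix
    have hlt : Nat.card (P ⧸ T) < m := by
      rw [← hm, Subgroup.card_eq_card_quotient_mul_card_subgroup T]
      refine lt_mul_of_one_lt_right Nat.card_pos ?_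
      rw [hT, Nat.card_zpowers, hto]
      exact (Fact.out : p.Prime).one_lt
    let Γ' : Set (MulAut (P ⧸ T)) := {τ | ∃ σ ∈ Γ, ∀ v : P, τ (v : P ⧸ T) = (σ v : P ⧸ T)}
    obtain ⟨N₀, hN₀, hinv, u, hu, hfix⟩ := ih _ hlt (P ⧸ T) rfl (hP.to_quotient T)
      (isMetacyclic_quotient hmeta T) (y : P ⧸ T) (Subgroup.mem_center_iff.2 fun v => by
        induction v using QuotientGroup.induction_on with | _ v => ?_
        rw [← QuotientGroup.mk_mul, ← QuotientGroup.mk_mul, QuotientGroup.eq]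
        have := inv_mem (hyc v)
        have h2 := hTn.conj_mem _ this (y * v)⁻¹
        simpa [mul_assoc] using hTn.conj_mem _ this (v * y)⁻¹)
      (fun h => hyT ((QuotientGroup.eq_one_iff y).1 h)) Γ' (by
        rintro τ ⟨σ, hσ, hτ⟩
        rw [hτ, QuotientGroup.eq]
        have := hTn.conj_mem _ (inv_mem (hyfix σ hσ)) (y⁻¹)
        simpa [mul_assoc] using this)
    obtain ⟨u, rfl⟩ := QuotientGroup.mk_surjective u
    have hσ' : ∀ σ ∈ Γ, QuotientGroup.congr T T σ (hTσ σ) ∈ Γ' := fun σ hσ =>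
      ⟨σ, hσ, fun v => QuotientGroup.congr_mk T T σ (hTσ σ) v⟩
    refine ⟨N₀.comap (QuotientGroup.mk' T), ?_, fun σ hσ v hv => ?_, u, hu, fun σ hσ => ?_⟩
    · rw [← Subgroup.map_le_iff_le_comap]
      refine le_trans ?_ hN₀
      rw [_root_.commutator_def, _root_.commutator_def, Subgroup.map_commutator]
      exact Subgroup.commutator_mono le_top le_top
    · show ((σ v : P) : P ⧸ T) ∈ N₀
      rw [← QuotientGroup.congr_mk T T σ (hTσ σ) v]
      exact hinv _ (hσ' σ hσ) _ hv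
    · show ((σ u * u⁻¹ : P) : P ⧸ T) ∈ N₀
      rw [QuotientGroup.mk_mul, QuotientGroup.mk_inv, ← QuotientGroup.congr_mk T T σ (hTσ σ) u]
      exact hfix _ (hσ' σ hσ)
  by_cases hfixt : ∀ σ ∈ Γ, σ t = t
  swap
  · -- `x` survives modulo `T`
    push Not at hfixt
    obtain ⟨σ₀, hσ₀, hne⟩ := hfixt
    refine hrec x (fun hxT => hne ?_) (fun v => ?_) (fun σ hσ => ?_)
    · have hxo : orderOf x = orderOf t := by
        have hd : orderOf x ∣ p :=
          (Subgroup.orderOf_dvd_natCard _ hxT).trans (by rw [hT, Nat.card_zpowers, hto])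
        rw [hto]
        exact ((Nat.dvd_prime (Fact.out : p.Prime)).1 hd).resolve_left fun h =>
          hx1 (orderOf_eq_one_iff.1 h)
      have htx : t ∈ Subgroup.zpowers x := by
        rw [Components.zpowers_eq_of_isCyclic (S := T) hxT (Subgroup.mem_zpowers t) hxo]
        exact Subgroup.mem_zpowers t
      obtain ⟨i, hi⟩ := htx
      rw [← show x ^ i = t from hi, map_zpow, hΓ σ₀ hσ₀]
    · rw [Subgroup.mem_center_iff.1 hxc v, mul_inv_cancel_right, mul_inv_cancel]
      exact one_mem _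
    · rw [hΓ σ hσ, mul_inv_cancel]; exact one_mem _
  by_cases hk2 : 2 ≤ k
  · -- the next cyclic layer of `D` is fixed modulo `T`
    set s := g ^ p ^ (k - 2) with hs
    have hsD : s ∈ D := pow_mem hgD _
    have hst : s ^ p = t := by
      rw [hs, ht, ← pow_mul, ← pow_succ, show k - 2 + 1 = k - 1 by omega]
    have key : ∀ σ : MulAut P, σ t = t → σ s * s⁻¹ ∈ T := fun σ hσ => by
      obtain ⟨i, hi⟩ := hcyc σ s hsD
      have hi' : s ^ i = σ s := hi
      have h1 : t ^ (i - 1) = 1 := by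
        rw [zpow_sub_one, mul_inv_eq_one]
        conv_rhs => rw [← hσ, ← hst, map_pow, ← hi']
        rw [← hst, ← zpow_natCast s p, ← zpow_natCast (s ^ i) p, ← zpow_mul, ← zpow_mul, mul_comm]
      obtain ⟨j, hj⟩ := (hto ▸ orderOf_dvd_iff_zpow_eq_one.2 h1 : (p : ℤ) ∣ i - 1)
      refine ⟨j, ?_⟩
      show t ^ j = σ s * s⁻¹
      rw [← hi', ← hst, ← zpow_natCast s p, ← zpow_mul, ← hj, zpow_sub_one]
    refine hrec s (fun hsT => ?_) (fun v => ?_) (fun σ hσ => key σ (hfixt σ hσ))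
    · have h1 : s ^ p = 1 := by
        obtain ⟨i, hi⟩ := hsT
        rw [← show t ^ i = s from hi, ← zpow_natCast, ← zpow_mul, mul_comm, zpow_mul, zpow_natCast,
          ← hto, pow_orderOf_eq_one, one_zpow]
      rw [hst] at h1
      rw [h1, orderOf_one] at hto
      exact (Fact.out : p.Prime).one_lt.ne hto
    · refine key (MulAut.conj v) ?_
      rw [MulAut.conj_apply, Subgroup.mem_center_iff.1 htc v, mul_inv_cancel_right]
  -- `D = T` and the `p`-th power map
  have hk1 : k = 1 := by omega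
  have hDT : D = T := by rw [← hg, hT, ht, hk1]; simp
  have hcomm : ∀ a b : P, ⁅a, b⁆ ∈ T := fun a b => hDT ▸ (by
    rw [hD, _root_.commutator_def]
    exact Subgroup.commutator_mem_commutator (Subgroup.mem_top a) (Subgroup.mem_top b))
  have hcp : ∀ v ∈ T, v ^ p = 1 := fun v hv => orderOf_dvd_iff_pow_eq_one.1
    ((Subgroup.orderOf_dvd_natCard _ hv).trans (by rw [hT, Nat.card_zpowers, hto]))
  have hodd : Odd p := (Fact.out : p.Prime).odd_of_ne_two hp
  have hmul : ∀ a b : P, (a * b) ^ p = a ^ p * b ^ p := fun a b =>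
    PGroups.mul_pow_of_central_odd ((Subgroup.zpowers_le.2 htc) (hcomm b a)) hodd (hcp _ (hcomm b a))
  let f : P →* P := MonoidHom.mk' (fun a => a ^ p) hmul
  obtain ⟨a, ha⟩ := (Subgroup.isCyclic_iff_exists_zpowers_eq_top _).1 hNc
  obtain ⟨a₀, ha₀⟩ : ∃ a₀ : P, a₀ ^ p = t := by
    obtain ⟨j, hj⟩ := (ha ▸ hDN htD : t ∈ Subgroup.zpowers a)
    have hj' : a ^ j = t := hj
    obtain ⟨e, he⟩ := IsPGroup.iff_orderOf.1 hP a
    have he2 : 2 ≤ e := by
      by_contra hlt
      have hcard : Nat.card N ≤ p := by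
        rw [← ha, Nat.card_zpowers, he]
        exact (Nat.pow_le_pow_right (Fact.out : p.Prime).pos (show e ≤ 1 by omega)).trans (pow_one p).le
      have hab := PGroups.isMulCommutative_of_cyclic_quotient (N := N)
        (PGroups.RankTwoOmega.le_center_of_card_le hP hcard)
      exact hD1 (by
        rw [hD, _root_.commutator_def, Subgroup.commutator_eq_bot_iff_le_centralizer]
        exact fun v _ => Subgroup.mem_centralizer_iff.2 fun w _ => hab.is_comm.comm w v)
    have hdvd : (orderOf a : ℤ) ∣ j * p := orderOf_dvd_iff_zpow_eq_one.2 (by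
      rw [zpow_mul, hj', zpow_natCast, ← hto, pow_orderOf_eq_one])
    have hpj : (p : ℤ) ∣ j := by
      obtain ⟨e, rfl⟩ : ∃ e', e = e' + 2 := ⟨e - 2, by omega⟩
      rw [he] at hdvd
      push_cast at hdvd
      obtain ⟨c, hc⟩ := hdvd
      refine ⟨(p : ℤ) ^ e * c, mul_right_cancel₀
        (Int.natCast_ne_zero.2 (Fact.out : p.Prime).ne_zero) ?_⟩
      rw [hc]; ring
    obtain ⟨i, hi⟩ := hpj
    exact ⟨a ^ i, by rw [← hj', hi, ← zpow_natCast, ← zpow_mul, mul_comm]⟩
  refine ⟨f.ker, fun v hv => ?_, fun σ _ v hv => ?_, a₀, fun h => ?_, fun σ hσ => ?_⟩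
  · exact MonoidHom.mem_ker.2 (hcp v (hDT ▸ hv))
  · have hv' : v ^ p = 1 := MonoidHom.mem_ker.1 hv
    exact MonoidHom.mem_ker.2 (show (σ v) ^ p = 1 by rw [← map_pow, hv', map_one])
  · have h' : a₀ ^ p = 1 := MonoidHom.mem_ker.1 h
    rw [ha₀] at h'
    rw [h', orderOf_one] at hto
    exact (Fact.out : p.Prime).one_lt.ne hto
  · refine MonoidHom.mem_ker.2 ?_
    show (σ a₀ * a₀⁻¹) ^ p = 1
    rw [hmul, ← map_pow, inv_pow, ha₀, hfixt σ hσ, mul_inv_cancel]

end CfsgLib.LocalEvenB.IsolatedSylow
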