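import Cfsg.Agent.S3888
import Cfsg.Agent.Lib.LocalEvenB.IsolatedSylow.Metacyclic
import Cfsg.Agent.Lib.LocalEvenB.IsolatedSylow.MaxClass
import Cfsg.Agent.Lib.Transfer.RankTwo
import Cfsg.Agent.Lib.Core.Nilpotent
import Cfsg.Agent.Lib.PGroups.Omega
import Cfsg.Prelude.Def_CaseTheorems

/-!
# Sylow structure around an isolated element of order `p` in `p`-rank two
-/

set_option autoImplicit false

namespace CfsgLib.LocalEvenB.IsolatedSylow

open Subgroup Cfsg

theorem conj_isolated {G : Type*} [Group G] {x : G} (hiso : IsIsolated x) (g : G) :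
    IsIsolated (g * x * g⁻¹) := by
  intro h hc
  have hc' : Commute x ((g⁻¹ * h * g) * x * (g⁻¹ * h * g)⁻¹) := by
    have := hc.map (MulAut.conj g⁻¹).toMonoidHom
    simpa [mul_assoc] using this
  have e := congrArg (fun t => g * t * g⁻¹) (hiso _ hc')
  simpa [mul_assoc] using e

theorem two_gen_of_finset {S : Type*} [Group S] {H : Subgroup S}
    (h : ∃ T : Finset S, T.card ≤ 2 ∧ Subgroup.closure (T : Set S) = H) :
    ∃ a b : S, H = Subgroup.closure {a, b} := by
  classical
  obtain ⟨T, hT, rfl⟩ := h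
  rcases Nat.lt_or_ge T.card 1 with h0 | h1
  · refine ⟨1, 1, ?_⟩
    rw [Finset.card_eq_zero.1 (by omega : T.card = 0)]
    rw [Finset.coe_empty, Subgroup.closure_empty, eq_comm, eq_bot_iff, Subgroup.closure_le]
    simp
  rcases Nat.lt_or_ge T.card 2 with h2 | h2
  · obtain ⟨a, rfl⟩ := Finset.card_eq_one.1 (by omega : T.card = 1)
    exact ⟨a, a, by simp⟩
  · obtain ⟨a, b, -, rfl⟩ := Finset.card_eq_two.1 (le_antisymm hT h2)
    exact ⟨a, b, by simp⟩

universe u

/-- The Sylow subgroups of a non-abelian simple group of rank two containing an isolated element. -/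
theorem sylow_structure {L : Type u} [Group L] [Finite L] {p : ℕ} [Fact p.Prime] (hp : p ≠ 2)
    [IsSimpleGroup L] (hna : ¬ IsMulCommutative L) (hrk : PRankLE p 2 L) {y : L} (hy : orderOf y = p)
    (hiso : IsIsolated y) (P : Sylow p L) (hyP : y ∈ (P : Subgroup L)) :
    (IsExtraspecial p (P : Subgroup L) ∧ Nat.card (P : Subgroup L) = p ^ 3 ∧
      ∀ v ∈ (P : Subgroup L), v ^ p = 1) ∨
    (p = 3 ∧ ∃ k : ℕ, 2 ≤ k ∧ Nat.card (P : Subgroup L) = 3 ^ (2 * k + 1) ∧
      ∃ _ : Group.IsNilpotent (P : Subgroup L), Group.nilpotencyClass (P : Subgroup L) = 2 * k) := by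
  have hpp : p.Prime := Fact.out
  have hperf : _root_.commutator L = ⊤ := by
    refine ((inferInstance : (_root_.commutator L).Normal).eq_bot_or_eq_top).resolve_left fun h => hna ?_
    refine ⟨⟨fun a b => commutatorElement_eq_one_iff_mul_comm.1 (Subgroup.mem_bot.1 ?_)⟩⟩
    rw [← h, _root_.commutator_def]
    exact Subgroup.commutator_mem_commutator (Subgroup.mem_top a) (Subgroup.mem_top b)
  set x : (P : Subgroup L) := ⟨y, hyP⟩ with hx'
  have hx : orderOf x = p := by rw [hx', Subgroup.orderOf_mk, hy]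
  have hx1 : x ≠ 1 := fun h => by
    rw [h, orderOf_one] at hx
    exact hpp.one_lt.ne hx
  have hxc : x ∈ Subgroup.center (P : Subgroup L) := Subgroup.mem_center_iff.2 fun v =>
    Subtype.ext (isolated_commute_sylow hiso P hyP v.2).eq.symm
  have hrkP : PRankLE p 2 (P : Subgroup L) :=
    PGroups.prankLE_of_injective hrk (f := (P : Subgroup L).subtype) (Subgroup.subtype_injective _)
  have hPp : IsPGroup p (P : Subgroup L) := P.isPGroup'
  have hfq : NoWreath p (P : Subgroup L) → FixedQuotient {σ : MulAut (P : Subgroup L) | σ x = x} → False :=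
    fun h1 h2 => false_of_fixedQuotient hperf hy hiso P hyP h1 h2
  have hpow : ∀ m : ℕ, (∀ u v : (P : Subgroup L), (u * v) ^ m = u ^ m * v ^ m) →
      (∀ u : (P : Subgroup L), u ^ m ∈ Subgroup.zpowers x) → ∀ u : (P : Subgroup L), u ^ m = 1 := by
    intro m hmul hrange u
    refine Subtype.ext ?_
    rw [Subgroup.coe_pow]
    refine eq_one_of_power_hom hperf hy hiso P hyP m (fun a ha b hb => ?_) (fun a ha => ?_) (u : L) u.2
    · have := congrArg Subtype.val (hmul ⟨a, ha⟩ ⟨b, hb⟩)
      simpa using this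
    · obtain ⟨i, hi⟩ := Subgroup.mem_zpowers_iff.1 (hrange ⟨a, ha⟩)
      exact ⟨i, by simpa using congrArg Subtype.val hi⟩
  have hmeta : ¬ IsMetacyclic (P : Subgroup L) := fun h => hfq
    (noWreath_of_two_gen hp (two_gen_of_metacyclic h))
    (fixedQuotient_of_metacyclic hp _ _ rfl hPp h x hxc hx1 _ fun σ hσ => hσ)
  obtain ⟨n, hn⟩ := IsPGroup.iff_card.1 hPp
  rcases Cfsg.Agent.S3888.result hp n hn hrkP with h | ⟨hn3, a, b, c, hgen, ha, hb, hc, hac, hbc, hab⟩ |
    ⟨hn4, s, a, b, c, hs, hgen, ha, hb, hc, hbc, hab, hac⟩ | ⟨hp3, hn2, hne⟩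
  · exact absurd h hmeta
  · obtain ⟨h1, h2, h3⟩ := extraspecial_of_typeOne hp hrkP hn hx hxc hpow hn3 hgen ha hb hc hac hbc hab
    refine Or.inl ⟨h1, h2, fun v hv => ?_⟩
    simpa using congrArg Subtype.val (h3 ⟨v, hv⟩)
  · exact (false_of_typeTwo hp hrkP hn hx hxc hpow hfq hn4 hs hgen ha hb hc hbc hab hac).elim
  subst hp3
  haveI hnil : Group.IsNilpotent (P : Subgroup L) := hPp.isNilpotent
  have hcls : Group.nilpotencyClass (P : Subgroup L) = n - 1 := by
    refine le_antisymm (Core.nilpotencyClass_le_of_card_eq_pow hn (by omega)) ?_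
    by_contra h
    exact hne (Subgroup.lowerCentralSeries_eq_bot_iff_nilpotencyClass_le.mpr (by omega))
  obtain rfl | hn3 := hn2.eq_or_lt
  · have hc := IsPGroup.isMulCommutative_of_card_eq_prime_sq hn
    refine (hfq (fun Q f hf => ?_) ?_).elim
    · have h := Nat.card_le_card_of_surjective f hf
      rw [card_sylow_wreath, hn, Nat.pow_le_pow_iff_right hpp.one_lt] at h
      omega
    · refine ⟨⊥, ?_, fun σ _ v hv => ?_, x, fun h => hx1 (Subgroup.mem_bot.1 h), fun σ hσ => ?_⟩
      · rw [_root_.commutator_def, Subgroup.commutator_le]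
        intro a _ b _
        rw [Subgroup.mem_bot, commutatorElement_eq_one_iff_mul_comm]
        exact hc.is_comm.comm a b
      · rw [Subgroup.mem_bot] at hv ⊢
        rw [hv, map_one]
      · rw [show σ x = x from hσ, mul_inv_cancel]; exact one_mem _
  obtain rfl | hn4 := (show 3 ≤ n from hn3).eq_or_lt
  · refine Or.inl ⟨?_, hn, ?_⟩
    · refine PGroups.isExtraspecial_of_card_cube (fun hc => hne ?_) hn
      rw [show 3 - 2 = 1 from rfl, Subgroup.top_lowerCentralSeries_one, eq_bot_iff, _root_.commutator_def,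
        Subgroup.commutator_le]
      intro a _ b _
      rw [Subgroup.mem_bot, commutatorElement_eq_one_iff_mul_comm]
      exact hc.is_comm.comm a b
    · intro v hv
      by_contra hv3
      refine hmeta ?_
      obtain ⟨e, he⟩ := IsPGroup.iff_orderOf.1 hPp ⟨v, hv⟩
      set N := Subgroup.zpowers (⟨v, hv⟩ : (P : Subgroup L)) with hN
      have he2 : 2 ≤ e := by
        by_contra hlt
        refine hv3 ?_
        have : (⟨v, hv⟩ : (P : Subgroup L)) ^ 3 = 1 := orderOf_dvd_iff_pow_eq_one.1 (by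
          rw [he]
          exact (pow_dvd_pow 3 (show e ≤ 1 by omega)).trans (dvd_refl _))
        simpa using congrArg Subtype.val this
      have hidx : N.index = 1 ∨ N.index = 3 := by
        have h1 := N.card_mul_index
        rw [hN, Nat.card_zpowers, he, hn] at h1
        have h2 : 3 ^ 2 * N.index ≤ 3 ^ 2 * 3 := by
          rw [hN, ← pow_succ]
          calc _ ≤ 3 ^ e * _ := Nat.mul_le_mul_right _ (Nat.pow_le_pow_right (by norm_num) he2)
            _ = _ := h1
        have h3 : N.index ≤ 3 := Nat.le_of_mul_le_mul_left h2 (by norm_num)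
        have h4 : N.index ∣ 3 ^ 3 := hn ▸ N.index_dvd_card
        obtain ⟨f, hf, hf'⟩ := (Nat.dvd_prime_pow Nat.prime_three).1 h4
        rw [hf'] at h3 ⊢
        have : f ≤ 1 := (Nat.pow_le_pow_iff_right (show 1 < 3 by norm_num)).1 (by simpa using h3)
        interval_cases f <;> simp
      have hNn : N.Normal := by
        rcases hidx with h | h
        · rw [Subgroup.index_eq_one.1 h]; infer_instance
        · exact Subgroup.normal_of_index_eq_minFac_card (by
            rw [h, hn, Nat.pow_minFac (by norm_num), Nat.prime_three.minFac_eq])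
      refine ⟨N, hNn, ⟨⟨_, Subgroup.mem_zpowers _⟩, fun w => ?_⟩, ?_⟩
      · obtain ⟨i, hi⟩ := Subgroup.mem_zpowers_iff.1 w.2
        exact ⟨i, Subtype.ext (by simpa using hi)⟩
      · rcases hidx with h | h <;> rw [Subgroup.index_eq_card] at h
        · haveI := (Nat.card_eq_one_iff_unique.1 h).1
          infer_instance
        · exact isCyclic_of_prime_card h
  have D := ClassSizes.MaxClass.Data.of (show 3 ≤ n by omega) hn hcls
  have hno : NoWreath 3 (P : Subgroup L) := by
    obtain h5 | rfl : 5 ≤ n ∨ n = 4 := by omega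
    · exact noWreath_of_two_gen hp fun H =>
        two_gen_of_finset (PGroups.MaxClassThree.gen_two_of_five_le D h5 H)
    · exact noWreath_of_card_four hp hn hrkP
  obtain hev | ⟨k, rfl⟩ := Nat.even_or_odd n
  · exact (hfq hno (fixedQuotient_maxClass D (by omega) hev hx hxc)).elim
  · exact Or.inr ⟨rfl, k, by omega, hn, hnil, by rw [hcls]; omega⟩

/-- The Sylow subgroups of a simple normal subgroup, by fusion with the isolated element. -/
theorem sylow_cases {G : Type u} [Group G] [Finite G] {p : ℕ} [Fact p.Prime] (hp : p ≠ 2)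
    (hrank : PRankLE p 2 G) (x : G) (hx : orderOf x = p) (hiso : IsIsolated x) (F : Subgroup G)
    [F.Normal] [IsSimpleGroup F] (hna : ¬ IsMulCommutative F) (P : Sylow p F) :
      ((∀ g : G, g * x * g⁻¹ ∉ ((P : Subgroup ↥F).map
          F.subtype)) ∧
          IsCyclic ↥(P : Subgroup ↥F)) ∨
      ((∃ g : G, g * x * g⁻¹ ∈ ((P : Subgroup ↥F).map
          F.subtype)) ∧
        ((IsExtraspecial p ↥(P : Subgroup ↥F) ∧
            Nat.card (P : Subgroup ↥F) = p ^ 3 ∧
            ∀ y ∈ (P : Subgroup ↥F), y ^ p = 1) ∨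
         (p = 3 ∧ ∃ k : ℕ, 2 ≤ k ∧ Nat.card (P : Subgroup ↥F) = 3 ^ (2 * k + 1) ∧
            ∃ _ : Group.IsNilpotent ↥(P : Subgroup ↥F),
              Group.nilpotencyClass ↥(P : Subgroup ↥F) = 2 * k))) := by
  by_cases hex : ∃ g : G, g * x * g⁻¹ ∈ (P : Subgroup ↥F).map F.subtype
  · refine Or.inr ⟨hex, ?_⟩
    obtain ⟨g, y, hyP, hy⟩ := hex
    have hyo : orderOf y = p := by
      rw [← Subgroup.orderOf_coe, show (y : G) = MulAut.conj g x from hy, MulEquiv.orderOf_eq, hx]
    have hyiso : IsIsolated y := fun h hc => by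
      have h1 := conj_isolated hiso g (h : G)
      rw [← show (y : G) = g * x * g⁻¹ from hy] at h1
      exact Subtype.ext (h1 (by simpa using hc.map F.subtype))
    exact sylow_structure hp hna (PGroups.prankLE_of_injective hrank (f := F.subtype) F.subtype_injective)
      hyo hyiso P hyP
  · push Not at hex
    refine Or.inl ⟨hex, ?_⟩
    have hPp : IsPGroup p (P : Subgroup ↥F) := P.isPGroup'
    obtain ⟨S, hS⟩ := (hPp.map F.subtype).exists_le_sylow
    obtain ⟨S₀, hS₀⟩ := (mem_zpowers_pGroup (p := p) ⟨1, by rw [pow_one]; exact hx⟩ :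
      IsPGroup p (Subgroup.zpowers x)).exists_le_sylow
    obtain ⟨g, rfl⟩ := MulAction.exists_smul_eq G S₀ S
    set y := g * x * g⁻¹ with hy
    have hyS : y ∈ ((g • S₀ : Sylow p G) : Subgroup G) :=
      ⟨x, hS₀ (Subgroup.mem_zpowers x), rfl⟩
    have hyo : orderOf y = p := by rw [hy, ← MulAut.conj_apply, MulEquiv.orderOf_eq, hx]
    have hyp : y ^ p = 1 := hyo ▸ pow_orderOf_eq_one y
    have hyF : y ∉ F := by
      intro hmem
      obtain ⟨T, hT⟩ := (mem_zpowers_pGroup (p := p) (x := (⟨y, hmem⟩ : ↥F))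
        ⟨1, by rw [pow_one, Subgroup.orderOf_mk, hyo]⟩).exists_le_sylow
      obtain ⟨h, rfl⟩ := MulAction.exists_smul_eq ↥F T P
      refine hex ((h : G) * g) ⟨h * ⟨y, hmem⟩ * h⁻¹, ⟨⟨y, hmem⟩, hT (Subgroup.mem_zpowers _), rfl⟩, ?_⟩
      simp [hy, mul_assoc]
    rcases subsingleton_or_nontrivial (P : Subgroup ↥F) with hs | hn
    · exact isCyclic_of_subsingleton
    haveI := hPp.center_nontrivial
    obtain ⟨z, hz⟩ := exists_prime_orderOf_dvd_card' (G := Subgroup.center (P : Subgroup ↥F)) p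
      (by
        obtain ⟨k, hk⟩ := IsPGroup.iff_card.1 (hPp.to_subgroup (Subgroup.center (P : Subgroup ↥F)))
        rw [hk]
        refine dvd_pow_self p fun h0 => ?_
        rw [h0, pow_zero] at hk
        exact (Finite.one_lt_card_iff_nontrivial.2 inferInstance).ne' hk)
    refine Transfer.isCyclic_of_unique_order_p hp hPp fun a b ha ha1 hb => ?_
    let ι : (P : Subgroup ↥F) →* G := F.subtype.comp (P : Subgroup ↥F).subtype
    have hι : Function.Injective ι := F.subtype_injective.comp (P : Subgroup ↥F).subtype_injective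
    have hz1 : ι z.1 ≠ 1 := fun h => by
      rw [← Subgroup.orderOf_coe, orderOf_eq_one_iff.2 (hι (h.trans (map_one ι).symm))] at hz
      exact (Fact.out : p.Prime).one_lt.ne hz
    have hzp : (z.1) ^ p = 1 := by
      rw [← Subgroup.orderOf_coe] at hz
      exact orderOf_dvd_iff_pow_eq_one.1 hz.dvd
    have hmemS : ∀ v, ι v ∈ ((g • S₀ : Sylow p G) : Subgroup G) := fun v =>
      hS ⟨v.1, v.2, rfl⟩
    have hcy : ∀ v, Commute y (ι v) := fun v =>
      isolated_commute_sylow (conj_isolated hiso g) _ hyS (hmemS v)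
    have hnorm : Subgroup.zpowers y ≤ Subgroup.normalizer (Subgroup.zpowers (ι z.1) : Set G) := by
      refine Subgroup.zpowers_le.2 (Subgroup.centralizer_le_normalizer _
        (Subgroup.mem_centralizer_iff.2 fun v hv => ?_))
      obtain ⟨i, rfl⟩ := Subgroup.mem_zpowers_iff.1 hv
      exact ((hcy z.1).zpow_right i).eq.symm
    have key : ∀ v : (P : Subgroup ↥F), v ^ p = 1 → v ∈ Subgroup.zpowers z.1 := by
      intro v hv
      have h := mem_sup_of_rank_two hrank hyp (by rw [← map_pow, hzp, map_one])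
        (c := ι v) (by rw [← map_pow, hv, map_one]) (hcy z.1) (hcy v)
        ((show Commute z.1 v from (Subgroup.mem_center_iff.1 z.2 v).symm).map ι) hz1
        (fun h => hyF (Subgroup.zpowers_le.2 (z.1).1.2 h))
      rw [← SetLike.mem_coe, Subgroup.coe_mul_of_left_le_normalizer_right _ _ hnorm] at h
      obtain ⟨_, ⟨i, rfl⟩, _, ⟨j, rfl⟩, hij⟩ := h
      simp only at hij
      have hyi : y ^ i = 1 := by
        by_contra h1
        refine hyF (Subgroup.zpowers_le.2 ?_ (pPower_mem_zpowers hyp h1))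
        rw [show y ^ i = ι v * (ι z.1 ^ j)⁻¹ by rw [← hij, mul_inv_cancel_right]]
        exact mul_mem v.1.2 (inv_mem (zpow_mem (z.1).1.2 j))
      rw [hyi, one_mul, ← map_zpow] at hij
      exact ⟨j, hι hij⟩
    obtain ⟨i, rfl⟩ := Subgroup.mem_zpowers_iff.1 (key a ha)
    exact Subgroup.zpowers_le.2 (pPower_mem_zpowers hzp ha1) (key b hb)

/-- The structure theorem for an isolated element in rank two. -/
theorem isolated_rank_two_structure {G : Type u} [Group G] [Finite G] {p : ℕ} [Fact p.Prime] (hp : p ≠ 2)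
    (hcore : pPrimeCore p G = ⊥) (hrank : PRankLE p 2 G) (x : G) (hx : orderOf x = p) (hiso : IsIsolated x)
    (hnc : x ∉ Subgroup.center G) :
    IsSimpleGroup ↥(generalizedFittingSubgroup G) ∧ ¬ IsMulCommutative ↥(generalizedFittingSubgroup G) ∧
    ∀ P : Sylow p ↥(generalizedFittingSubgroup G),
      ((∀ g : G, g * x * g⁻¹ ∉ ((P : Subgroup ↥(generalizedFittingSubgroup G)).map
          (generalizedFittingSubgroup G).subtype)) ∧
          IsCyclic ↥(P : Subgroup ↥(generalizedFittingSubgroup G))) ∨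
      ((∃ g : G, g * x * g⁻¹ ∈ ((P : Subgroup ↥(generalizedFittingSubgroup G)).map
          (generalizedFittingSubgroup G).subtype)) ∧
        ((IsExtraspecial p ↥(P : Subgroup ↥(generalizedFittingSubgroup G)) ∧
            Nat.card (P : Subgroup ↥(generalizedFittingSubgroup G)) = p ^ 3 ∧
            ∀ y ∈ (P : Subgroup ↥(generalizedFittingSubgroup G)), y ^ p = 1) ∨
         (p = 3 ∧ ∃ k : ℕ, 2 ≤ k ∧ Nat.card (P : Subgroup ↥(generalizedFittingSubgroup G)) = 3 ^ (2 * k + 1) ∧
            ∃ _ : Group.IsNilpotent ↥(P : Subgroup ↥(generalizedFittingSubgroup G)),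
              Group.nilpotencyClass ↥(P : Subgroup ↥(generalizedFittingSubgroup G)) = 2 * k))) := by
  obtain ⟨hsimp, hna, -, -⟩ := gFitting_isolated_rank_two hp hcore hrank hx hiso hnc
  refine ⟨hsimp, hna, fun P => ?_⟩
  haveI := hsimp
  haveI : (generalizedFittingSubgroup G).Normal := Components.gFitting_normal
  exact sylow_cases hp hrank x hx hiso _ hna P

end CfsgLib.LocalEvenB.IsolatedSylow
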