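import Cfsg.Agent.Lib.LocalEvenB.IsolatedSylow.Transfer

/-!
# Criteria for `Z_p ≀ Z_p` not being an image
-/

set_option autoImplicit false

namespace CfsgLib.LocalEvenB.IsolatedSylow

open Subgroup Cfsg

theorem card_sup_le {G : Type*} [Group G] [Finite G] {A B : Subgroup G}
    (h : A ≤ Subgroup.normalizer (B : Set G)) :
    Nat.card (A ⊔ B : Subgroup G) ≤ Nat.card A * Nat.card B := by
  rw [← SetLike.coe_sort_coe, Subgroup.coe_mul_of_left_le_normalizer_right _ _ h]
  exact Set.natCard_mul_le

variable {p : ℕ} [Fact p.Prime]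

/-- A Sylow subgroup of `Sym(p²)` has an elementary abelian subgroup of order `p ^ p`. -/
theorem exists_elementary_wreath (Q : Sylow p (Equiv.Perm (Fin (p ^ 2)))) :
    ∃ E : Subgroup (Q : Subgroup (Equiv.Perm (Fin (p ^ 2)))), IsMulCommutative E ∧
      (∀ a ∈ E, a ^ p = 1) ∧ Nat.card E = p ^ p := by
  classical
  let T := ZMod p × ZMod p
  let ε : T ≃ Fin (p ^ 2) := Finite.equivFinOfCardEq (by simp [T, sq])
  let sh : Multiplicative (ZMod p → ZMod p) →* Equiv.Perm T :=
    { toFun := fun v =>
        { toFun := fun t => (t.1, t.2 + v.toAdd t.1)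
          invFun := fun t => (t.1, t.2 - v.toAdd t.1)
          left_inv := fun t => by simp
          right_inv := fun t => by simp }
      map_one' := by ext t <;> simp
      map_mul' := fun v w => by ext t <;> simp [add_assoc, add_comm (w.toAdd t.1)] }
  let f := ε.permCongrHom.toMonoidHom.comp sh
  have hf : Function.Injective f := by
    intro v w h
    have h1 : sh v = sh w := ε.permCongrHom.injective h
    refine Multiplicative.toAdd.injective (funext fun i => ?_)
    have := congrArg (fun σ : Equiv.Perm T => (σ (i, 0)).2) h1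
    simpa [sh] using this
  have hcard : Nat.card f.range = p ^ p := by
    rw [← Nat.card_congr (MonoidHom.ofInjective hf).toEquiv,
      Nat.card_congr Multiplicative.toAdd, Nat.card_fun, Nat.card_zmod]
  have hexp : ∀ v : Multiplicative (ZMod p → ZMod p), v ^ p = 1 := fun v => by
    refine Multiplicative.toAdd.injective (funext fun i => ?_)
    simp [toAdd_pow]
  obtain ⟨W, hW⟩ := (IsPGroup.of_card hcard).exists_le_sylow
  let e := W.equiv Q
  let E₀ : Subgroup (W : Subgroup (Equiv.Perm (Fin (p ^ 2)))) := f.range.subgroupOf W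
  refine ⟨E₀.map e.toMonoidHom, ⟨⟨?_⟩⟩, ?_, ?_⟩
  · rintro ⟨_, a, ⟨v, hv⟩, rfl⟩ ⟨_, b, ⟨w, hw⟩, rfl⟩
    refine Subtype.ext ?_
    show e a * e b = e b * e a
    rw [← map_mul, ← map_mul]
    refine congrArg e (Subtype.ext ?_)
    push_cast
    rw [show (a : Equiv.Perm (Fin (p ^ 2))) = f v from hv.symm,
      show (b : Equiv.Perm (Fin (p ^ 2))) = f w from hw.symm, ← map_mul, ← map_mul, mul_comm]
  · rintro _ ⟨a, ⟨v, hv⟩, rfl⟩
    show e a ^ p = 1
    rw [← map_pow, show a ^ p = 1 from Subtype.ext ?_, map_one]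
    push_cast
    rw [show (a : Equiv.Perm (Fin (p ^ 2))) = f v from hv.symm, ← map_pow, hexp, map_one]
  · rw [Subgroup.card_map_of_injective e.injective,
      Nat.card_congr (Subgroup.subgroupOfEquivOfLe hW).toEquiv, hcard]

theorem card_sylow_wreath (Q : Sylow p (Equiv.Perm (Fin (p ^ 2)))) :
    Nat.card (Q : Subgroup (Equiv.Perm (Fin (p ^ 2)))) = p ^ (p + 1) := by
  rw [Q.card_eq_multiplicity, Nat.card_perm, Nat.card_fin, Nat.factorization_def _ (Fact.out : p.Prime),
    LocalEven.Yoshida.padicValNat_factorial_sq]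

variable {P : Type*} [Group P] [Finite P]

/-- A group all whose subgroups are two-generated has no wreathed image. -/
theorem noWreath_of_two_gen (hp : p ≠ 2)
    (h : ∀ H : Subgroup P, ∃ a b : P, H = Subgroup.closure {a, b}) : NoWreath p P := by
  intro Q g hg
  obtain ⟨E, hEc, hEp, hEcard⟩ := exists_elementary_wreath Q
  obtain ⟨a, b, hab⟩ := h (E.comap g)
  have hEe : E = Subgroup.closure {g a, g b} := by
    rw [← Subgroup.map_comap_eq_self_of_surjective hg E, hab, MonoidHom.map_closure, Set.image_pair]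
  have ha : g a ∈ E := by rw [hEe]; exact Subgroup.subset_closure (Or.inl rfl)
  have hb : g b ∈ E := by rw [hEe]; exact Subgroup.subset_closure (Or.inr rfl)
  have hle : E ≤ Subgroup.zpowers (g a) ⊔ Subgroup.zpowers (g b) := by
    rw [hEe, Subgroup.closure_le]
    rintro y (rfl | rfl)
    · exact Subgroup.mem_sup_left (Subgroup.mem_zpowers _)
    · exact Subgroup.mem_sup_right (Subgroup.mem_zpowers _)
  have hnorm : Subgroup.zpowers (g a) ≤ Subgroup.normalizer (Subgroup.zpowers (g b) : Set _) := by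
    refine Subgroup.zpowers_le.2 (Subgroup.centralizer_le_normalizer _
      (Subgroup.mem_centralizer_iff.2 ?_))
    intro y hy
    have : y ∈ E := Subgroup.zpowers_le.2 hb hy
    exact congrArg Subtype.val (hEc.is_comm.comm ⟨y, this⟩ ⟨g a, ha⟩)
  have hcy : ∀ y ∈ E, Nat.card (Subgroup.zpowers y) ≤ p := fun y hy => by
    rw [Nat.card_zpowers]
    exact Nat.le_of_dvd (Fact.out : p.Prime).pos (orderOf_dvd_of_pow_eq_one (hEp y hy))
  have h1 := (Subgroup.card_le_of_le hle).trans ((card_sup_le hnorm).trans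
    (Nat.mul_le_mul (hcy _ ha) (hcy _ hb)))
  rw [hEcard, ← sq] at h1
  have := (Nat.pow_le_pow_iff_right (Fact.out : p.Prime).one_lt).1 h1
  have := (Fact.out : p.Prime).two_le
  omega

/-- A group of order `p ^ 4` and rank at most two has no wreathed image. -/
theorem noWreath_of_card_four (hp : p ≠ 2) (hcard : Nat.card P = p ^ 4) (hrk : PRankLE p 2 P) :
    NoWreath p P := by
  intro Q g hg
  have hp3 : 3 ≤ p := by have := (Fact.out : p.Prime).two_le; omega
  have h1 : Nat.card (Q : Subgroup (Equiv.Perm (Fin (p ^ 2)))) ≤ Nat.card P :=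
    Nat.card_le_card_of_surjective g hg
  rw [card_sylow_wreath, hcard] at h1
  have h2 : p = 3 := by
    have := (Nat.pow_le_pow_iff_right (Fact.out : p.Prime).one_lt).1 h1
    omega
  have hbij : Function.Bijective g := by
    refine (Nat.bijective_iff_surjective_and_card g).2 ⟨hg, ?_⟩
    rw [card_sylow_wreath, hcard, h2]
  let e := MulEquiv.ofBijective g hbij
  obtain ⟨E, hEc, hEp, hEcard⟩ := exists_elementary_wreath Q
  have h3 := hrk (E.map e.symm.toMonoidHom) (by
    refine ⟨⟨?_⟩⟩
    rintro ⟨_, a, ha, rfl⟩ ⟨_, b, hb, rfl⟩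
    refine Subtype.ext ?_
    show e.symm a * e.symm b = e.symm b * e.symm a
    rw [← map_mul, ← map_mul]
    exact congrArg e.symm (congrArg Subtype.val (hEc.is_comm.comm ⟨a, ha⟩ ⟨b, hb⟩))) (by
    rintro _ ⟨a, ha, rfl⟩
    show e.symm a ^ p = 1
    rw [← map_pow, hEp a ha, map_one])
  rw [Subgroup.card_map_of_injective e.symm.injective, hEcard] at h3
  have := (Nat.pow_le_pow_iff_right (Fact.out : p.Prime).one_lt).1 h3
  omega

end CfsgLib.LocalEvenB.IsolatedSylow
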