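import Cfsg.Agent.Lib.LocalEvenB.Isolated
import Cfsg.Agent.Lib.Transfer.Fusion
import Cfsg.Agent.Lib.LocalEven.YoshidaWreath
import Mathlib.GroupTheory.SchurZassenhaus

/-!
# Transfer with an isolated element in a perfect group

Invariant homomorphisms of a Sylow subgroup are trivial: power maps with values in `⟨x⟩`, and
characters fixed by the normalizer when `Z_p ≀ Z_p` is not an image.
-/

set_option autoImplicit false

namespace CfsgLib.LocalEvenB.IsolatedSylow

open Subgroup Cfsg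
open scoped Classical

/-- No `Z_p ≀ Z_p` image. -/
def NoWreath (p : ℕ) (P : Type*) [Group P] : Prop :=
  ∀ (Q : Sylow p (Equiv.Perm (Fin (p ^ 2)))) (f : P →* (Q : Subgroup (Equiv.Perm (Fin (p ^ 2))))),
    ¬ Function.Surjective f

/-- An abelian quotient with a nontrivial point fixed by all automorphisms in `Γ`. -/
def FixedQuotient {P : Type*} [Group P] (Γ : Set (MulAut P)) : Prop :=
  ∃ N₀ : Subgroup P, _root_.commutator P ≤ N₀ ∧ (∀ σ ∈ Γ, ∀ v ∈ N₀, σ v ∈ N₀) ∧
    ∃ u, u ∉ N₀ ∧ ∀ σ ∈ Γ, σ u * u⁻¹ ∈ N₀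

variable {L : Type*} [Group L] [Finite L] {p : ℕ} [Fact p.Prime]

/-- A power map of `P` into `⟨x⟩` which is a homomorphism is trivial. -/
theorem eq_one_of_power_hom (hperf : _root_.commutator L = ⊤) {x : L} (hx : orderOf x = p)
    (hiso : IsIsolated x) (P : Sylow p L) (hxP : x ∈ (P : Subgroup L)) (m : ℕ)
    (hmul : ∀ u ∈ (P : Subgroup L), ∀ v ∈ (P : Subgroup L), (u * v) ^ m = u ^ m * v ^ m)
    (hrange : ∀ u ∈ (P : Subgroup L), u ^ m ∈ Subgroup.zpowers x) :
    ∀ u ∈ (P : Subgroup L), u ^ m = 1 := by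
  let C : Subgroup L :=
    { carrier := {u | u ∈ (P : Subgroup L) ∧ u ^ m = 1}
      one_mem' := ⟨one_mem _, one_pow m⟩
      mul_mem' := fun {a b} ha hb => ⟨mul_mem ha.1 hb.1, by
        rw [hmul a ha.1 b hb.1, ha.2, hb.2, one_mul]⟩
      inv_mem' := fun {a} ha => ⟨inv_mem ha.1, by rw [inv_pow, ha.2, inv_one]⟩ }
  intro u hu
  have h := Transfer.commutator_inf_le_of_fusion P C (fun y hy g hg => by
    refine ⟨mul_mem (inv_mem hy) hg, ?_⟩
    rw [hmul _ (inv_mem hy) _ hg, inv_pow]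
    have h1 : (g⁻¹ * y * g) ^ m = g⁻¹ * y ^ m * g⁻¹⁻¹ := by
      rw [show g⁻¹ * y * g = g⁻¹ * y * g⁻¹⁻¹ by rw [inv_inv], conj_pow]
    have h2 : g⁻¹ * y ^ m * g⁻¹⁻¹ ∈ (P : Subgroup L) := h1 ▸ pow_mem hg m
    rw [h1, isolated_pow_fixed ⟨1, by rw [pow_one]; exact hx⟩ hiso P hxP (hrange y hy) h2,
      inv_mul_cancel])
  exact (h (Subgroup.mem_inf.2 ⟨hperf ▸ Subgroup.mem_top u, hu⟩)).2

/-- In a perfect group without wreathed image the normalizer moves every abelian quotient. -/
theorem false_of_fixedQuotient (hperf : _root_.commutator L = ⊤) {x : L} (hx : orderOf x = p)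
    (hiso : IsIsolated x) (P : Sylow p L) (hxP : x ∈ (P : Subgroup L))
    (hno : NoWreath p (P : Subgroup L))
    (hfq : FixedQuotient {σ : MulAut (P : Subgroup L) | σ ⟨x, hxP⟩ = ⟨x, hxP⟩}) : False := by
  obtain ⟨N₀, hN₀, hinv, u, hu, hufix⟩ := hfq
  set N := Subgroup.normalizer ((P : Subgroup L) : Set L) with hN
  let α := Subgroup.normalizerMonoidHom (P : Subgroup L)
  have hαval : ∀ (n : N) (v : (P : Subgroup L)), ((α n v : (P : Subgroup L)) : L) = n * v * (n : L)⁻¹ :=
    fun n v => rfl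
  have hαΓ : ∀ n : N, α n ⟨x, hxP⟩ = ⟨x, hxP⟩ := fun n => by
    refine Subtype.ext ?_
    rw [hαval]
    exact isolated_pow_fixed ⟨1, by rw [pow_one]; exact hx⟩ hiso P hxP (Subgroup.mem_zpowers x)
      ((Subgroup.mem_normalizer_iff.1 n.2 x).1 hxP)
  -- `P ≤ N'`
  have hPN' : (P : Subgroup L) ≤ ⁅N, N⁆ := by
    by_contra hle
    obtain ⟨Q, f, hf⟩ := LocalEven.Yoshida.exists_surjective_wreath P fun h => hle (by
      rw [hperf, inf_top_eq] at h
      exact h.le.trans inf_le_right)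
    exact hno Q f hf
  -- a complement
  have : (((P : Subgroup L)).subgroupOf N).Normal := Subgroup.normal_in_normalizer
  have hcop : (Nat.card ((P : Subgroup L).subgroupOf N)).Coprime ((P : Subgroup L).subgroupOf N).index :=
    (P.subtype Subgroup.le_normalizer).card_coprime_index
  obtain ⟨H, hH⟩ := Subgroup.exists_right_complement'_of_coprime hcop
  have : Fintype H := Fintype.ofFinite H
  obtain ⟨e, he⟩ := IsPGroup.iff_card.1 P.2
  have hHp : (Nat.card H).Coprime p := by
    rw [← hH.symm.index_eq_card]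
    refine ((Fact.out : p.Prime).coprime_iff_not_dvd.2 ?_).symm
    exact (P.subtype Subgroup.le_normalizer).not_dvd_index
  have : N₀.Normal := ⟨fun v hv g => by
    have h1 : g * v * g⁻¹ * v⁻¹ ∈ N₀ := hN₀ (by
      rw [_root_.commutator_def]
      exact Subgroup.commutator_mem_commutator (Subgroup.mem_top g) (Subgroup.mem_top v))
    simpa using mul_mem h1 hv⟩
  let cg : CommGroup ((P : Subgroup L) ⧸ N₀) :=
    { (inferInstance : Group ((P : Subgroup L) ⧸ N₀)) with
      mul_comm := fun a b => by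
        induction a using QuotientGroup.induction_on with | _ a => ?_
        induction b using QuotientGroup.induction_on with | _ b => ?_
        show ((a * b : (P : Subgroup L)) : (P : Subgroup L) ⧸ N₀) = (b * a : (P : Subgroup L))
        rw [QuotientGroup.eq]
        refine hN₀ ?_
        rw [_root_.commutator_def, show (a * b)⁻¹ * (b * a) = b⁻¹ * a⁻¹ * b⁻¹⁻¹ * a⁻¹⁻¹ by group]
        exact Subgroup.commutator_mem_commutator (Subgroup.mem_top b⁻¹) (Subgroup.mem_top a⁻¹) }
  have hmem : ∀ (n : N), ∀ v ∈ N₀, α n v ∈ N₀ := fun n => hinv _ (hαΓ n)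
  let θ : (P : Subgroup L) →* (P : Subgroup L) ⧸ N₀ :=
    MonoidHom.mk' (fun v => ∏ h : H, QuotientGroup.mk' N₀ (α (h : N) v)) fun v w => by
      rw [← Finset.prod_mul_distrib]
      exact Finset.prod_congr rfl fun h _ => by rw [map_mul, map_mul]
  have hθα : ∀ (k : H) (v : (P : Subgroup L)), θ (α (k : N) v) = θ v := fun k v => by
    refine Fintype.prod_equiv (Equiv.mulRight k) _ _ fun h => ?_
    simp [Subgroup.coe_mul]
  have hθu : θ u ≠ 1 := by
    have h1 : θ u = QuotientGroup.mk' N₀ u ^ Nat.card H := by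
      have h2 : ∀ h : H, QuotientGroup.mk' N₀ (α (h : N) u) = QuotientGroup.mk' N₀ u := fun h => by
        rw [QuotientGroup.mk'_eq_mk']
        refine ⟨(α (h : N) u)⁻¹ * u, ?_, mul_inv_cancel_left _ _⟩
        have := inv_mem (hufix _ (hαΓ h))
        rw [mul_inv_rev, inv_inv] at this
        have h3 := (inferInstance : N₀.Normal).conj_mem _ this u⁻¹
        simpa [mul_assoc] using h3
      show ∏ h : H, QuotientGroup.mk' N₀ (α (h : N) u) = _
      rw [Finset.prod_congr rfl fun h _ => h2 h, Finset.prod_const, Finset.card_univ,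
        Nat.card_eq_fintype_card]
    intro h
    rw [h1] at h
    refine hu ((QuotientGroup.eq_one_iff u).1 (orderOf_eq_one_iff.1 ?_))
    have hd : orderOf (QuotientGroup.mk' N₀ u) ∣ p ^ e :=
      (orderOf_map_dvd _ u).trans (he ▸ orderOf_dvd_natCard u)
    exact Nat.eq_one_of_dvd_coprimes (hHp.pow_right e) (orderOf_dvd_of_pow_eq_one h) hd
  -- extend `θ` to the normalizer
  have hdec : ∀ n : N, ∃ v : (P : Subgroup L), ∃ h : H, (n : L) = (v : L) * ((h : N) : L) := fun n => by
    obtain ⟨⟨⟨v, hv⟩, h⟩, hn⟩ := hH.2 n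
    exact ⟨⟨(v : L), hv⟩, h, (congrArg Subtype.val hn).symm⟩
  have huniq : ∀ (v w : (P : Subgroup L)) (h k : H),
      (v : L) * ((h : N) : L) = (w : L) * ((k : N) : L) → v = w := fun v w h k hvw => by
    have h1 := hH.1 (a₁ := ((⟨⟨(v : L), Subgroup.le_normalizer v.2⟩, v.2⟩ :
        (P : Subgroup L).subgroupOf N), h))
      (a₂ := ((⟨⟨(w : L), Subgroup.le_normalizer w.2⟩, w.2⟩ :
        (P : Subgroup L).subgroupOf N), k)) (Subtype.ext hvw)
    exact Subtype.ext (congrArg (fun z : (P : Subgroup L).subgroupOf N × H => ((z.1 : N) : L)) h1)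
  let Θ : N →* (P : Subgroup L) ⧸ N₀ := MonoidHom.mk' (fun n => θ (hdec n).choose) fun a b => by
    obtain ⟨h, ha⟩ := (hdec a).choose_spec
    obtain ⟨k, hb⟩ := (hdec b).choose_spec
    obtain ⟨l, hab⟩ := (hdec (a * b)).choose_spec
    set v := (hdec a).choose
    set w := (hdec b).choose
    set z := (hdec (a * b)).choose
    have hz : z = v * α (h : N) w := huniq _ _ l (h * k) (by
      rw [← hab, Subgroup.coe_mul, Subgroup.coe_mul, Subgroup.coe_mul, Subgroup.coe_mul, hαval, ha, hb]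
      group)
    show θ z = θ v * θ w
    rw [hz, map_mul, hθα]
  have hPmem : ∀ v : (P : Subgroup L), Θ ⟨(v : L), Subgroup.le_normalizer v.2⟩ = θ v := fun v => by
    obtain ⟨h, hv⟩ := (hdec ⟨(v : L), Subgroup.le_normalizer v.2⟩).choose_spec
    show θ _ = θ v
    exact congrArg θ (huniq _ v h 1 (by simpa using hv.symm))
  have hker : ⁅N, N⁆ ≤ Θ.ker.map N.subtype := by
    rw [← map_subtype_commutator]
    exact Subgroup.map_mono (Abelianization.commutator_subset_ker Θ)
  obtain ⟨n, hn, hne⟩ := hker (hPN' u.2)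
  refine hθu ?_
  rw [← hPmem u, show (⟨(u : L), Subgroup.le_normalizer u.2⟩ : N) = n from Subtype.ext hne.symm]
  exact MonoidHom.mem_ker.1 hn

end CfsgLib.LocalEvenB.IsolatedSylow
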